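import Mathlib

/-!
# Conjugate diagonal matrices (helper352)
-/

set_option autoImplicit false

open scoped MatrixGroups

namespace Cfsg.Agent.H352.KE

theorem charpoly_conj_GL {n k : Type*} [Fintype n] [DecidableEq n] [Field k] (g t t' : GL n k)
    (h : g * t * g⁻¹ = t') : (t' : Matrix n n k).charpoly = (t : Matrix n n k).charpoly := by
  rw [← h, Units.val_mul, Units.val_mul, Matrix.charpoly_mul_comm, ← mul_assoc, Units.inv_mul, one_mul]

theorem roots_prod_sub {ι k : Type*} [Fintype ι] [Field k] (d : ι → k) :
    (∏ i, (Polynomial.X - Polynomial.C (d i))).roots = Multiset.map d Finset.univ.val := by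
  have h3 : (∏ i, (Polynomial.X - Polynomial.C (d i))) =
      (Multiset.map (fun a => Polynomial.X - Polynomial.C a) (Multiset.map d Finset.univ.val)).prod := by
    rw [Multiset.map_map]
    rfl
  rw [h3, Polynomial.roots_multiset_prod_X_sub_C]

theorem map_sum_elim {a b : ℕ} {k : Type*} (f : Fin a → k) (g : Fin b → k) :
    Multiset.map (Sum.elim f g) Finset.univ.val =
      Multiset.map f Finset.univ.val + Multiset.map g Finset.univ.val := by
  rw [← Finset.univ_disjSum_univ]
  show Multiset.map _ (Multiset.disjSum _ _) = _
  rw [Multiset.disjSum, Multiset.map_add, Multiset.map_map, Multiset.map_map]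
  rfl

end Cfsg.Agent.H352.KE
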