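import Cfsg.Agent.H210.EL.Gen
import Cfsg.Agent.H352.KE.Mat

/-!
# Tori of Chevalley groups over finite fields, modulus `m` (helper352; S4822, KE)

For a Chevalley group `D.group F` whose root lattice is the weight lattice (`InvC D l 1 B`), an element `w` of the Weyl
group (given by a chain) and `m` prime to the characteristic: the elements `X a` of exponent `m` of the torus of type `w`,
`a : Fin l → ZMod m` an eigenvector of `w` with eigenvalue `|F|`.
-/

set_option autoImplicit false
set_option linter.unusedSectionVars false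

namespace Cfsg.Agent.H352.KE

open CoxeterSystem Cfsg Cfsg.Lie Cfsg.Lie.ChevalleyDatum
open Cfsg.Agent.ChevalleyStructure Cfsg.Agent.ChevalleyStructure.Elts Cfsg.Agent.ChevalleyStructure.CoxeterGeom
  Cfsg.Agent.ChevalleyStructure.CoxeterGeomTypes Cfsg.Agent.ChevalleyStructure.NPerm
  Cfsg.Agent.ChevalleyStructure.RootVec
open Cfsg.Agent.Tits.Roots Cfsg.Agent.Tits.Core Cfsg.Agent.Nodes Cfsg.Agent.Nodes.Reps Cfsg.Agent.Nodes.BNOf
  Cfsg.Agent.Nodes.RGDChev Cfsg.Agent.Nodes.Bruhat
open Cfsg.Agent.KFacts.RgdField Cfsg.Agent.KFacts.RgdChevCoord Cfsg.Agent.BpExc.TorCent Cfsg.Agent.BpExc.TorChev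
open Cfsg.Agent.GpExc.Field Cfsg.Agent.BpExc.Tow Cfsg.Agent.BpExc.TowChev Cfsg.Agent.BpExc.Fr
  Cfsg.Agent.BpExc.LangFr Cfsg.Agent.H795.SetCent Cfsg.Agent.H795.Toral Cfsg.Agent.H795.Core
  Cfsg.Agent.H795.RootConn Cfsg.Agent.H795.SetTor Cfsg.Agent.H129.TorusChar Cfsg.Agent.H129.TorusUntw
  Cfsg.Agent.H129.WData Cfsg.Agent.H795.Reduce Cfsg.Agent.H795.LangT
  Cfsg.Agent.BpExc Cfsg.Agent.H210.EL

universe u

section pow

variable {k : Type u} [Field k] {m : ℕ}

theorem pow_val_add' [NeZero m] {ζ : k} (hζ : ζ ^ m = 1) (a b : ZMod m) :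
    ζ ^ (a + b).val = ζ ^ a.val * ζ ^ b.val := by
  rw [← pow_add, ZMod.val_add]
  conv_rhs => rw [← Nat.mod_add_div (a.val + b.val) m, pow_add, pow_mul ζ m, hζ, one_pow, mul_one]

theorem pow_val_cast' {ζ : k} (hζ : ζ ^ m = 1) (n : ℕ) (a : ZMod m) :
    ζ ^ ((n : ZMod m) * a).val = (ζ ^ a.val) ^ n := by
  rw [← pow_mul, ZMod.val_mul, ZMod.val_natCast]
  have h1 : (n % m * a.val) % m = (a.val * n) % m := by
    rw [Nat.mod_mul_mod, mul_comm]
  rw [h1]
  conv_rhs => rw [← Nat.mod_add_div (a.val * n) m, pow_add, pow_mul ζ m, hζ, one_pow, mul_one]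

/-- the character `x ↦ ζ ^ (λ x)` -/
noncomputable def chm {l : ℕ} (ζ : k) (a : Fin l → ZMod m) (x : Fin l → ℤ) : k := ζ ^ (lam a x).val

theorem isMC_chm [NeZero m] {l : ℕ} {ζ : k} (hζ : ζ ^ m = 1) (a : Fin l → ZMod m) : IsMC (chm ζ a) where
  zero := by
    unfold chm
    rw [lam_zero, ZMod.val_zero, pow_zero]
  add x y := by
    unfold chm
    rw [lam_add, pow_val_add' hζ]

theorem pow_val_inj [NeZero m] {ζ : k} (hζ : IsPrimitiveRoot ζ m) {a b : ZMod m} (h : ζ ^ a.val = ζ ^ b.val) :
    a = b :=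
  ZMod.val_injective m (hζ.pow_inj (ZMod.val_lt a) (ZMod.val_lt b) h)

end pow

theorem lam_add_left {l m : ℕ} (a b : Fin l → ZMod m) (x : Fin l → ℤ) : lam (a + b) x = lam a x + lam b x := by
  unfold lam
  rw [← Finset.sum_add_distrib]
  refine Finset.sum_congr rfl fun n _ => ?_
  rw [Pi.add_apply, mul_add]

theorem eigOK_add {l m : ℕ} {W : Mat l} {s : ZMod m} {a b : Fin l → ZMod m} (ha : H210.EL.EigOK W s a)
    (hb : H210.EL.EigOK W s b) : H210.EL.EigOK W s (a + b) := by
  intro j
  simp only [Pi.add_apply, mul_add, Finset.sum_add_distrib]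
  rw [ha j, hb j]

variable {D : ChevalleyDatum} {l : ℕ} {M : CoxeterMatrix (Fin l)} (hp : IsType D l M)

section torus

variable {k : Type u} [Field k]

/-- the matrix of an element of the torus -/
theorem torus_matrix {t : ↥(D.group k)} (ht : t ∈ TT D k) :
    ((t : GL D.Idx k) : Matrix D.Idx D.Idx k) = Matrix.diagonal (Sum.elim (fun _ => (1 : k))
      (fun s : Fin D.nroots => cX hp t (vec D l s))) := by
  have ht' := ht
  rw [Subgroup.mem_subgroupOf] at ht'
  obtain ⟨c, hc, hmat, hact⟩ := Cfsg.Agent.H129.Tor.exists_c hp ht'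
  rw [hmat]
  congr 1
  congr 1
  funext s
  rw [cX_vec hp ht s.2]
  symm
  apply ch_eq hp s.2 ht
  apply Subtype.ext
  rw [Subgroup.coe_mul, Subgroup.coe_mul, Subgroup.coe_inv, coe_xc hp s.2, coe_xc hp s.2, hact s s.2, mul_one]

/-- **Conjugate elements of the torus have the same multiset of root values.** -/
theorem roots_eq_of_isConj {t t' : ↥(D.group k)} (ht : t ∈ TT D k) (ht' : t' ∈ TT D k) (h : IsConj t t') :
    Multiset.map (fun s : Fin D.nroots => cX hp t (vec D l s)) Finset.univ.val =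
      Multiset.map (fun s : Fin D.nroots => cX hp t' (vec D l s)) Finset.univ.val := by
  obtain ⟨g, hg⟩ := isConj_iff.1 h
  have h2 := charpoly_conj_GL (g : GL D.Idx k) (t : GL D.Idx k) (t' : GL D.Idx k) (congrArg Subtype.val hg)
  rw [torus_matrix hp ht, torus_matrix hp ht', Matrix.charpoly_diagonal, Matrix.charpoly_diagonal] at h2
  have h4 := congrArg Polynomial.roots h2
  rw [roots_prod_sub, roots_prod_sub, map_sum_elim, map_sum_elim] at h4
  exact (add_left_cancel h4).symm

end torus

/-- eigenvectors of the Weyl group element with matrix `W`, eigenvalue `|F|`, modulo `m` -/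
abbrev Eig (F : Type u) [Field F] [Fintype F] {l m : ℕ} (W : Mat l) (a : Fin l → ZMod m) : Prop :=
  H210.EL.EigOK W (Fintype.card F : ZMod m) a

/-- the multiset of root values -/
def rts (D : ChevalleyDatum) (l : ℕ) {m : ℕ} (a : Fin l → ZMod m) : Multiset (ZMod m) :=
  Multiset.map (fun s : Fin D.nroots => lam a (vec D l s)) Finset.univ.val

include hp in
/-- **The torus of type `w`, elements of exponent `m`.** -/
theorem exists_frame {F : Type u} [Field F] [Fintype F] {m : ℕ} [NeZero m] (hm : (m : F) ≠ 0)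
    {B : Fin l → Fin l → ℤ} (hB : InvC D l 1 B) {A : Mat l} (hA : ∀ i j, A i j = cartanOf D l i j)
    {Cw : List (Fin l × Mat l)} (hw : ChainOK A Cw) :
    ∃ X : (Fin l → ZMod m) → ↥(D.group F),
      (∀ a b, Eig F (hd Cw) a → Eig F (hd Cw) b → X (a + b) = X a * X b) ∧
      (∀ a, Eig F (hd Cw) a → X a = 1 → a = 0) ∧
      (∀ Cv : List (Fin l × Mat l), ChainOK A Cv → CommOK (hd Cv) (hd Cw) → ∃ c : ↥(D.group F),
        ∀ a b, Eig F (hd Cw) a → Eig F (hd Cw) b → (∀ j, ∑ n, (hd Cv j n : ZMod m) * b n = a j) →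
          c * X a * c⁻¹ = X b) ∧
      (∀ a b, Eig F (hd Cw) a → Eig F (hd Cw) b → IsConj (X a) (X b) → rts D l a = rts D l b) := by
  classical
  obtain ⟨r, e', hr, hrF, hrk, he', hq, hk⟩ := exists_closure (F := F) rfl
  let k := AlgebraicClosure F
  let f : F →+* k := algebraMap F (AlgebraicClosure F)
  -- the root of unity
  have hpk : (m : k) ≠ 0 := by
    intro h
    apply hm
    apply f.injective
    rw [map_natCast, map_zero]
    exact h
  have : NeZero (m : k) := ⟨hpk⟩
  obtain ⟨ζ, hζ⟩ := HasEnoughRootsOfUnity.exists_primitiveRoot k m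
  have hζp : ζ ^ m = 1 := hζ.pow_eq_one
  -- the torus elements
  have hT : ∀ a : Fin l → ZMod m, ∃ t ∈ TT D k, ∀ x, cX hp t x = chm ζ a x := fun a =>
    exists_cX hp (k := k) hB one_ne_zero (isMC_chm hζp a) (fun i => ⟨_, pow_one _⟩)
  choose t ht hX using hT
  have htinj : ∀ {a b : Fin l → ZMod m}, t a = t b → a = b := by
    intro a b h
    funext i
    have h1 := hX a (sr i)
    rw [h, hX] at h1
    unfold chm at h1
    rw [lam_sr, lam_sr] at h1
    exact (pow_val_inj hζ h1).symm
  -- the frame automorphism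
  set σ := phi D k r e' with hσdef
  have hσ : IsFrob r e' σ := isFrob_phi
  have Fr0 : Fr M.toCoxeterSystem hp.isCartan (TT D k) (XX D l k) σ (AddEquiv.refl (Fin l → ℤ)) := fr_phi hp _
  have H := tow hp M.toCoxeterSystem hk r
  set w : M.Group := M.toCoxeterSystem.wordProd (Cw.map Prod.fst) with hwdef
  have hwr := chain_rep hp M.toCoxeterSystem hA hw
  rw [← hwdef] at hwr
  obtain ⟨nw, hnw⟩ := exists_rp M.toCoxeterSystem H.nsys w
  obtain ⟨u, hu⟩ := lang_all hp M.toCoxeterSystem he' hσ Fr0 1 nw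
  have hu' : nw = u⁻¹ * σ u := by
    rw [map_one, one_mul] at hu
    exact hu
  have Fr1 : Fr M.toCoxeterSystem hp.isCartan (TT D k) (XX D l k) (ct σ u)
      ((AddEquiv.refl (Fin l → ℤ)).trans (repAut M.toCoxeterSystem hp.isCartan w)) := by
    have h1 := Fr.conj H (by rw [hu'] at hnw; exact hnw : Rp M.toCoxeterSystem H.nsys w (u⁻¹ * σ u))
    rw [TL_eq hp hk, XL_eq hp hk] at h1
    exact h1.mul Fr0
  have hσ1 : IsFrob r e' (ct σ u) := hσ.conj_mul _
  have hg1 : ∀ x, ((AddEquiv.refl (Fin l → ℤ)).trans (repAut M.toCoxeterSystem hp.isCartan w)) x =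
      rep M.toCoxeterSystem hp.isCartan w x := fun x => rfl
  -- fixed
  have hfixt : ∀ {c : Fin l → ZMod m}, Eig F (hd Cw) c → ct σ u (t c) = t c := by
    intro c hcw
    refine cX_inj hp ((Fr1.tor (t c)).2 (ht c)) (ht c) fun i => ?_
    obtain ⟨y, hy⟩ := ((AddEquiv.refl (Fin l → ℤ)).trans (repAut M.toCoxeterSystem hp.isCartan w)).surjective (sr i)
    rw [← hy, cX_sigma hp M.toCoxeterSystem hσ1 Fr1 (ht c), hX, hX, hg1]
    unfold chm
    rw [lam_rep hp hwr hcw, pow_val_cast' hζp, ← hq]
  -- back in the finite group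
  have hback : ∀ {t : ↥(D.group k)}, ct σ u t = t → ∃ x : ↥(D.group F), emb hp.inList f x = u * t * u⁻¹ := by
    intro t ht
    exact fix_range hp M.toCoxeterSystem f hq hB one_ne_zero (fun a => ⟨a, pow_one a⟩) (ct_fix.1 ht)
  have hinj := emb_injective hp.inList f
  have hXX : ∀ a : Fin l → ZMod m, ∃ x : ↥(D.group F), Eig F (hd Cw) a → emb hp.inList f x = u * t a * u⁻¹ := by
    intro a
    by_cases h : Eig F (hd Cw) a
    · obtain ⟨x, hx⟩ := hback (hfixt h)
      exact ⟨x, fun _ => hx⟩
    · exact ⟨1, fun h' => absurd h' h⟩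
  choose X hXe using hXX
  refine ⟨X, ?_, ?_, ?_, ?_⟩
  · intro a b ha hb
    apply hinj
    rw [map_mul, hXe _ (eigOK_add ha hb), hXe _ ha, hXe _ hb]
    have h1 : t (a + b) = t a * t b := by
      refine cX_inj hp (ht _) (mul_mem (ht a) (ht b)) fun i => ?_
      rw [cX_mul hp (ht a) (ht b), hX, hX, hX]
      unfold chm
      rw [lam_add_left, pow_val_add' hζp]
    rw [h1]
    group
  · intro a ha h1
    have h2 := hXe a ha
    rw [h1, map_one] at h2
    have h3 : t a = 1 := by
      have h4 := congrArg (fun z => u⁻¹ * z * u) h2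
      simp only [mul_one, inv_mul_cancel] at h4
      rw [h4]
      group
    have h5 : t (0 : Fin l → ZMod m) = 1 := by
      refine cX_inj hp (ht _) (one_mem _) fun i => ?_
      rw [hX, cX_one]
      unfold chm
      rw [lam_sr, Pi.zero_apply, ZMod.val_zero, pow_zero]
    exact htinj (h3.trans h5.symm)
  · intro Cv hv hc
    set v : M.Group := M.toCoxeterSystem.wordProd (Cv.map Prod.fst) with hvdef
    have hvr := chain_rep hp M.toCoxeterSystem hA hv
    rw [← hvdef] at hvr
    have hcomm : ∀ x, rep M.toCoxeterSystem hp.isCartan v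
        (((AddEquiv.refl (Fin l → ℤ)).trans (repAut M.toCoxeterSystem hp.isCartan w)) x) =
        ((AddEquiv.refl (Fin l → ℤ)).trans (repAut M.toCoxeterSystem hp.isCartan w))
          (rep M.toCoxeterSystem hp.isCartan v x) := by
      intro x
      rw [hg1, hg1]
      have h1 := ext_sr ((rep M.toCoxeterSystem hp.isCartan v).toAddMonoidHom.comp
          (rep M.toCoxeterSystem hp.isCartan w).toAddMonoidHom)
        ((rep M.toCoxeterSystem hp.isCartan w).toAddMonoidHom.comp
          (rep M.toCoxeterSystem hp.isCartan v).toAddMonoidHom) (fun j => by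
            show rep M.toCoxeterSystem hp.isCartan v (rep M.toCoxeterSystem hp.isCartan w (sr j)) =
              rep M.toCoxeterSystem hp.isCartan w (rep M.toCoxeterSystem hp.isCartan v (sr j))
            funext m
            rw [H795.TorsData.rep_of_sr hp M.toCoxeterSystem hvr, H795.TorsData.rep_of_sr hp M.toCoxeterSystem hwr,
              hwr, hvr]
            exact (hc j m).symm) x
      exact h1
    obtain ⟨c', hc', hcf⟩ := exists_fixed_lift hp hk hB one_ne_zero he' hσ1 Fr1 hcomm
    obtain ⟨c, hcx⟩ := hback hcf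
    refine ⟨c, fun a b ha hb hab => ?_⟩
    apply hinj
    rw [map_mul, map_mul, map_inv, hcx, hXe a ha, hXe b hb]
    have hma := rp_conj_mem hp hk hc' (ht a)
    have h1 : c' * t a * c'⁻¹ = t b := by
      refine cX_inj hp hma (ht b) fun i => ?_
      obtain ⟨y', hy'⟩ := (repAut M.toCoxeterSystem hp.isCartan v).surjective (sr i)
      have hy'' : rep M.toCoxeterSystem hp.isCartan v y' = sr i := hy'
      rw [← hy'', cX_rp' hp hk hc' (ht a), hX, hX]
      unfold chm
      have h2 : lam b (rep M.toCoxeterSystem hp.isCartan v y') = lam a y' := by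
        have h3 := ext_sr ((lamHom b).comp (rep M.toCoxeterSystem hp.isCartan v).toAddMonoidHom) (lamHom a) (fun i => by
          show lam b (rep M.toCoxeterSystem hp.isCartan v (sr i)) = lam a (sr i)
          rw [hvr i, lam_sr]
          exact hab i) y'
        exact h3
      rw [h2]
    rw [← h1]
    group
  · intro a b ha hb h
    have h1 : IsConj (t a) (t b) := by
      have h2 : IsConj (emb hp.inList f (X a)) (emb hp.inList f (X b)) := (emb hp.inList f).map_isConj h
      rw [hXe a ha, hXe b hb] at h2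
      have h3 : ∀ z : ↥(D.group k), IsConj z (u * z * u⁻¹) := fun z => isConj_iff.2 ⟨u, rfl⟩
      exact (h3 _).trans (h2.trans (h3 _).symm)
    have h2 := roots_eq_of_isConj hp (ht a) (ht b) h1
    simp only [hX] at h2
    have hjn : Function.Injective (fun c : ZMod m => ζ ^ c.val) := fun c d h => pow_val_inj hζ h
    apply Multiset.map_injective hjn
    unfold rts
    rw [Multiset.map_map, Multiset.map_map]
    exact h2

end Cfsg.Agent.H352.KE
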