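import Cfsg.Agent.H352.KE.RankTwo

/-!
# Lines: action and fusion (helper352; S4822, KE)
-/

set_option autoImplicit false
set_option linter.unusedSectionVars false

namespace Cfsg.Agent.H352.KE

open Cfsg Cfsg.Lie Cfsg.Lie.ChevalleyDatum Subgroup
open Cfsg.Agent.ChevalleyStructure Cfsg.Agent.ChevalleyStructure.Elts Cfsg.Agent.ChevalleyStructure.CoxeterGeomTypes
open Cfsg.Agent.Nodes.RGDChev Cfsg.Agent.H129.WData Cfsg.Agent.H210.EL Cfsg.Agent.H129.TorusChar

universe u v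

section cast

variable {m p : ℕ} (hpm : p ∣ m)

include hpm in
theorem cast_intCast (z : ℤ) : ZMod.castHom hpm (ZMod p) (z : ZMod m) = (z : ZMod p) := map_intCast _ z

include hpm in
theorem cast_natCast (z : ℕ) : ZMod.castHom hpm (ZMod p) (z : ZMod m) = (z : ZMod p) := map_natCast _ z

include hpm in
/-- the natural number of an element of `ZMod m`, modulo `p` -/
theorem val_cast [NeZero m] (ω : ZMod m) : ((ω.val : ℕ) : ZMod p) = ZMod.castHom hpm (ZMod p) ω := by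
  conv_rhs => rw [← ZMod.natCast_zmod_val ω]
  rw [map_natCast]

end cast

/-- numbers which are products of `2, 3, 5, 7` are not zero modulo `p ≥ 11` -/
theorem smooth_ne {p : ℕ} [hp : Fact p.Prime] (h11 : 11 ≤ p) {n : ℤ} {k : ℕ} (hn : n ∣ 210 ^ k) : (n : ZMod p) ≠ 0 := by
  intro h
  have h1 : (p : ℤ) ∣ n := (ZMod.intCast_zmod_eq_zero_iff_dvd n p).1 h
  have h2 : p ∣ 210 ^ k := by exact_mod_cast h1.trans hn
  have h3 : p ∣ 2 * 3 * 5 * 7 := hp.out.dvd_of_dvd_pow h2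
  rcases (Nat.Prime.dvd_mul hp.out).1 h3 with h4 | h4
  · rcases (Nat.Prime.dvd_mul hp.out).1 h4 with h4 | h4
    · rcases (Nat.Prime.dvd_mul hp.out).1 h4 with h4 | h4
      · have := Nat.le_of_dvd (by norm_num) h4
        omega
      · have := Nat.le_of_dvd (by norm_num) h4
        omega
    · have := Nat.le_of_dvd (by norm_num) h4
      omega
  · have := Nat.le_of_dvd (by norm_num) h4
    omega

namespace Fra

variable {D : ChevalleyDatum} {l : ℕ} {F : Type u} [Field F] [Fintype F] {m : ℕ} {A W : Mat l} {G : Type v} [Group G]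
  {X : (Fin l → ZMod m) → G}

/-- an element which centralizes `X b` and acts on `X a` -/
theorem exists_c (H : Fra D l F m A W G X) [NeZero m] {a b : Fin l → ZMod m} (ha : Eig F W a) (hb : Eig F W b)
    {Cv : List (Fin l × Mat l)} (hv : ChainOK A Cv) (hc : CommOK (hd Cv) W)
    (hvb : ∀ j, ∑ n, (hd Cv j n : ZMod m) * b n = b j) {ω ω' : ZMod m}
    (hva : ∀ j, ∑ n, (hd Cv j n : ZMod m) * a n = ω * a j) (hω : ω' * ω = 1) :
    ∃ c : G, Commute c (X b) ∧ c * X a * c⁻¹ = X a ^ ω'.val := by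
  obtain ⟨c, h⟩ := H.act Cv hv hc
  refine ⟨c, ?_, ?_⟩
  · have h1 := h b b hb hb hvb
    show c * X b = X b * c
    rw [mul_inv_eq_iff_eq_mul] at h1
    exact h1
  · rw [← H.smul ha]
    refine h a (ω' • a) ha (eigOK_smul ha _) fun j => ?_
    have h1 : ∀ n, (hd Cv j n : ZMod m) * (ω' • a) n = ω' * ((hd Cv j n : ZMod m) * a n) := by
      intro n
      rw [Pi.smul_apply, smul_eq_mul]
      ring
    rw [Finset.sum_congr rfl fun n _ => h1 n, ← Finset.mul_sum, hva, ← mul_assoc, hω, one_mul]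

/-- fusion of the powers of `X b` -/
theorem fus_pow (H : Fra D l F m A W G X) {p : ℕ} [Fact p.Prime] (hpm : p ∣ m) {b : Fin l → ZMod m} (hb : Eig F W b)
    {k : ℕ} {C : ℤ} (hC : psum D b k = (C : ZMod m)) (hC0 : (C : ZMod p) ≠ 0) (g : G) (i : ℕ)
    (h : g * X b * g⁻¹ = X b ^ i) : (i : ZMod p) ^ k = 1 := by
  have h1 : IsConj (X b) (X ((i : ZMod m) • b)) := by
    rw [H.nsmul hb, ← h]
    exact isConj_iff.2 ⟨g, rfl⟩
  have h2 := psum_eq_of_rts (H.fus _ _ hb (eigOK_smul hb _) h1) k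
  rw [psum_smul, hC] at h2
  have h3 := congrArg (ZMod.castHom hpm (ZMod p)) h2
  rw [map_mul, map_pow, map_natCast, map_intCast] at h3
  have h4 : ((i : ZMod p) ^ k - 1) * (C : ZMod p) = 0 := by linear_combination -h3
  exact sub_eq_zero.1 ((mul_eq_zero.1 h4).resolve_right hC0)

/-- lines which are not fused -/
theorem not_fus (H : Fra D l F m A W G X) {p : ℕ} [Fact p.Prime] (hpm : p ∣ m) {a b : Fin l → ZMod m}
    (ha : Eig F W a) (hb : Eig F W b) {k : ℕ} {Ca Ca' Cb Cb' : ℤ} (hCa : psum D a k = (Ca : ZMod m))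
    (hCa' : psum D a (2 * k) = (Ca' : ZMod m)) (hCb : psum D b k = (Cb : ZMod m))
    (hCb' : psum D b (2 * k) = (Cb' : ZMod m)) (h0 : ((Cb' * Ca ^ 2 - Ca' * Cb ^ 2 : ℤ) : ZMod p) ≠ 0) (g : G) (i : ℕ) :
    g * X b * g⁻¹ ≠ X a ^ i := by
  intro h
  have h1 : IsConj (X b) (X ((i : ZMod m) • a)) := by
    rw [H.nsmul ha, ← h]
    exact isConj_iff.2 ⟨g, rfl⟩
  have h2 := psum_eq_of_rts (H.fus _ _ hb (eigOK_smul ha _) h1) k
  have h3 := psum_eq_of_rts (H.fus _ _ hb (eigOK_smul ha _) h1) (2 * k)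
  rw [psum_smul, hCb, hCa] at h2
  rw [psum_smul, hCb', hCa'] at h3
  apply h0
  have h4 : ((Cb' * Ca ^ 2 - Ca' * Cb ^ 2 : ℤ) : ZMod m) = 0 := by
    push_cast
    rw [h2, h3]
    ring
  have h5 := congrArg (ZMod.castHom hpm (ZMod p)) h4
  rw [map_intCast, map_zero] at h5
  exact h5

/-- `X a` is not a power of `X b` -/
theorem not_mem (H : Fra D l F m A W G X) [NeZero m] (hm1 : m ≠ 1) {a b : Fin l → ZMod m} (ha : Eig F W a)
    (hb : Eig F W b) (hab : ∀ i j : ZMod m, i • a + j • b = 0 → i = 0 ∧ j = 0) [Finite G] : X a ∉ zpowers (X b) := by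
  intro h
  rw [← mem_powers_iff_mem_zpowers] at h
  obtain ⟨n, hn⟩ := h
  have h1 : X ((1 : ZMod m) • a + (-(n : ZMod m)) • b) = 1 := by
    have h2 := H.add ((1 : ZMod m) • a + (-(n : ZMod m)) • b) ((n : ZMod m) • b)
      (eigOK_add (eigOK_smul ha _) (eigOK_smul hb _)) (eigOK_smul hb _)
    rw [H.nsmul hb, add_assoc, ← add_smul, neg_add_cancel, zero_smul, add_zero, one_smul] at h2
    rw [one_smul]
    have hn' : X b ^ n = X a := hn
    rw [hn'] at h2
    exact mul_eq_right.1 h2.symm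
  have h2 := (hab _ _ (H.inj _ (eigOK_add (eigOK_smul ha _) (eigOK_smul hb _)) h1)).1
  have h3 : (1 : ℕ) < m := by
    have := NeZero.ne m
    omega
  have : Fact (1 < m) := ⟨h3⟩
  exact one_ne_zero h2

/-- the cyclic subgroups intersect trivially -/
theorem disj (H : Fra D l F m A W G X) {a b : Fin l → ZMod m} (ha : Eig F W a)
    (hb : Eig F W b) (hab : ∀ i j : ZMod m, i • a + j • b = 0 → i = 0 ∧ j = 0) [Finite G] :
    zpowers (X b) ⊓ zpowers (X a) = ⊥ := by
  rw [eq_bot_iff]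
  rintro g ⟨h1, h2⟩
  replace h1 : g ∈ zpowers (X b) := h1
  replace h2 : g ∈ zpowers (X a) := h2
  rw [← mem_powers_iff_mem_zpowers] at h1 h2
  obtain ⟨n, hn⟩ := h1
  obtain ⟨k, hk⟩ := h2
  have hn' : X b ^ n = g := hn
  have hk' : X a ^ k = g := hk
  have h1 : X ((k : ZMod m) • a + (-(n : ZMod m)) • b) = 1 := by
    have h2 := H.add ((k : ZMod m) • a + (-(n : ZMod m)) • b) ((n : ZMod m) • b)
      (eigOK_add (eigOK_smul ha _) (eigOK_smul hb _)) (eigOK_smul hb _)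
    rw [H.nsmul hb, add_assoc, ← add_smul, neg_add_cancel, zero_smul, add_zero, H.nsmul ha, hn', hk'] at h2
    exact mul_eq_right.1 h2.symm
  have h2 := (hab _ _ (H.inj _ (eigOK_add (eigOK_smul ha _) (eigOK_smul hb _)) h1)).1
  rw [mem_bot, ← hk', ← H.nsmul ha, h2, zero_smul, H.zero]

end Fra

end Cfsg.Agent.H352.KE
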