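import Mathlib

/-!
# The order of `F₄(q)` (helper352; S4822, KE2)
-/

set_option autoImplicit false
set_option linter.unusedSectionVars false

namespace Cfsg.Agent.H352.KE

section
variable {R : Type*} [CommRing R] (t : R)

theorem res_AB (h : t ^ 2 - 1 = 0) (h' : t ^ 2 + t + 1 = 0) : (3 : R) = 0 := by
  linear_combination (-1 + t) * h + (2 - t) * h'
theorem res_AC (h : t ^ 2 - 1 = 0) (h' : t ^ 2 - t + 1 = 0) : (3 : R) = 0 := by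
  linear_combination (-1 - t) * h + (2 + t) * h'
theorem res_AD (h : t ^ 2 - 1 = 0) (h' : t ^ 2 + 1 = 0) : (2 : R) = 0 := by
  linear_combination (-1 : R) * h + h'
theorem res_AE (h : t ^ 2 - 1 = 0) (h' : t ^ 4 + 1 = 0) : (2 : R) = 0 := by
  linear_combination (-1 - t ^ 2) * h + h'
theorem res_AH (h : t ^ 2 - 1 = 0) (h' : t ^ 4 - t ^ 2 + 1 = 0) : (1 : R) = 0 := by
  linear_combination (- t ^ 2) * h + h'
theorem res_BC (h : t ^ 2 + t + 1 = 0) (h' : t ^ 2 - t + 1 = 0) : (2 : R) = 0 := by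
  linear_combination (1 - t) * h + (1 + t) * h'
theorem res_BD (h : t ^ 2 + t + 1 = 0) (h' : t ^ 2 + 1 = 0) : (1 : R) = 0 := by
  linear_combination (- t) * h + (1 + t) * h'
theorem res_BE (h : t ^ 2 + t + 1 = 0) (h' : t ^ 4 + 1 = 0) : (1 : R) = 0 := by
  linear_combination (1 - t ^ 2 + t ^ 3) * h + (- t) * h'
theorem res_BH (h : t ^ 2 + t + 1 = 0) (h' : t ^ 4 - t ^ 2 + 1 = 0) : (2 : R) = 0 := by
  linear_combination (2 - t - t ^ 2 + t ^ 3) * h + (- t) * h'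
theorem res_CD (h : t ^ 2 - t + 1 = 0) (h' : t ^ 2 + 1 = 0) : (1 : R) = 0 := by
  linear_combination t * h + (1 - t) * h'
theorem res_CE (h : t ^ 2 - t + 1 = 0) (h' : t ^ 4 + 1 = 0) : (1 : R) = 0 := by
  linear_combination (1 - t ^ 2 - t ^ 3) * h + t * h'
theorem res_CH (h : t ^ 2 - t + 1 = 0) (h' : t ^ 4 - t ^ 2 + 1 = 0) : (2 : R) = 0 := by
  linear_combination (2 + t - t ^ 2 - t ^ 3) * h + t * h'
theorem res_DE (h : t ^ 2 + 1 = 0) (h' : t ^ 4 + 1 = 0) : (2 : R) = 0 := by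
  linear_combination (1 - t ^ 2) * h + h'
theorem res_DH (h : t ^ 2 + 1 = 0) (h' : t ^ 4 - t ^ 2 + 1 = 0) : (3 : R) = 0 := by
  linear_combination (2 - t ^ 2) * h + h'
theorem res_EH (h : t ^ 4 + 1 = 0) (h' : t ^ 4 - t ^ 2 + 1 = 0) : (1 : R) = 0 := by
  linear_combination (1 - t ^ 2) * h + (t ^ 2) * h'

end

/-- the factors of the order of `F₄(q)` -/
structure Fac (q a b c d e h : ℕ) : Prop where
  ha : (a : ℤ) = q ^ 2 - 1
  hb : (b : ℤ) = q ^ 2 + q + 1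
  hc : (c : ℤ) = q ^ 2 - q + 1
  hd : (d : ℤ) = q ^ 2 + 1
  he : (e : ℤ) = q ^ 4 + 1
  hh : (h : ℤ) = 1 - q ^ 2 + q ^ 4
  hcard : q ^ 24 * (q ^ 2 - 1) * (q ^ 6 - 1) * (q ^ 8 - 1) * (q ^ 12 - 1) =
    q ^ 24 * a ^ 4 * b ^ 2 * c ^ 2 * d ^ 2 * e * h

theorem exists_fac {q : ℕ} (hq : 1 ≤ q) : ∃ a b c d e h, Fac q a b c d e h := by
  have hq' : (1 : ℤ) ≤ q := by exact_mod_cast hq
  have key : ∀ z : ℤ, 0 ≤ z → ∃ n : ℕ, (n : ℤ) = z := fun z hz => ⟨z.toNat, Int.toNat_of_nonneg hz⟩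
  have h2 : (q : ℤ) ≤ q ^ 2 := by nlinarith
  have h4 : (q : ℤ) ^ 2 ≤ q ^ 4 := by nlinarith [sq_nonneg ((q : ℤ) ^ 2)]
  obtain ⟨a, ha⟩ := key ((q : ℤ) ^ 2 - 1) (by linarith)
  obtain ⟨b, hb⟩ := key ((q : ℤ) ^ 2 + q + 1) (by positivity)
  obtain ⟨c, hc⟩ := key ((q : ℤ) ^ 2 - q + 1) (by linarith)
  obtain ⟨d, hd⟩ := key ((q : ℤ) ^ 2 + 1) (by positivity)
  obtain ⟨e, he⟩ := key ((q : ℤ) ^ 4 + 1) (by positivity)
  obtain ⟨h, hh⟩ := key (1 - (q : ℤ) ^ 2 + q ^ 4) (by linarith)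
  refine ⟨a, b, c, d, e, h, ha, hb, hc, hd, he, hh, ?_⟩
  have h2' : 1 ≤ q ^ 2 := Nat.one_le_pow _ _ hq
  have h6' : 1 ≤ q ^ 6 := Nat.one_le_pow _ _ hq
  have h8' : 1 ≤ q ^ 8 := Nat.one_le_pow _ _ hq
  have h12' : 1 ≤ q ^ 12 := Nat.one_le_pow _ _ hq
  zify [h2', h6', h8', h12']
  rw [ha, hb, hc, hd, he, hh]
  ring

section

variable {p q a b c d e h : ℕ} [hp : Fact p.Prime]

theorem two_ne (h11 : 11 ≤ p) : (2 : ZMod p) ≠ 0 := by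
  intro h
  have h1 : ((2 : ℕ) : ZMod p) = 0 := by exact_mod_cast h
  have := Nat.le_of_dvd (by norm_num) ((ZMod.natCast_eq_zero_iff _ _).1 h1)
  omega

theorem three_ne (h11 : 11 ≤ p) : (3 : ZMod p) ≠ 0 := by
  intro h
  have h1 : ((3 : ℕ) : ZMod p) = 0 := by exact_mod_cast h
  have := Nat.le_of_dvd (by norm_num) ((ZMod.natCast_eq_zero_iff _ _).1 h1)
  omega

theorem cast_of {n : ℕ} {z : ℤ} (hn : (n : ℤ) = z) {m : ℕ} : (n : ZMod m) = (z : ZMod m) := by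
  rw [← hn, Int.cast_natCast]

theorem zero_of {n : ℕ} (h : p ∣ n) : (n : ZMod p) = 0 := (ZMod.natCast_eq_zero_iff _ _).2 h

namespace Fac

variable (H : Fac q a b c d e h)
include H

theorem ca (hd : p ∣ a) : (q : ZMod p) ^ 2 - 1 = 0 := by
  have h1 := cast_of H.ha (m := p)
  rw [zero_of hd] at h1
  push_cast at h1
  exact h1.symm

theorem cb (hd : p ∣ b) : (q : ZMod p) ^ 2 + q + 1 = 0 := by
  have h1 := cast_of H.hb (m := p)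
  rw [zero_of hd] at h1
  push_cast at h1
  exact h1.symm

theorem cc (hd : p ∣ c) : (q : ZMod p) ^ 2 - q + 1 = 0 := by
  have h1 := cast_of H.hc (m := p)
  rw [zero_of hd] at h1
  push_cast at h1
  exact h1.symm

theorem cd (hd : p ∣ d) : (q : ZMod p) ^ 2 + 1 = 0 := by
  have h1 := cast_of H.hd (m := p)
  rw [zero_of hd] at h1
  push_cast at h1
  exact h1.symm

theorem ce (hd : p ∣ e) : (q : ZMod p) ^ 4 + 1 = 0 := by
  have h1 := cast_of H.he (m := p)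
  rw [zero_of hd] at h1
  push_cast at h1
  exact h1.symm

theorem ch (hd : p ∣ h) : (q : ZMod p) ^ 4 - q ^ 2 + 1 = 0 := by
  have h1 := cast_of H.hh (m := p)
  rw [zero_of hd] at h1
  push_cast at h1
  rw [h1]
  ring

/-- a prime divisor of the order -/
theorem cases (hpq : ¬ p ∣ q) (hd : p ∣ q ^ 24 * a ^ 4 * b ^ 2 * c ^ 2 * d ^ 2 * e * h) :
    p ∣ a ∨ p ∣ b ∨ p ∣ c ∨ p ∣ d ∨ p ∣ e ∨ p ∣ h := by
  have hp' := hp.out
  rcases (Nat.Prime.dvd_mul hp').1 hd with h1 | h1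
  · rcases (Nat.Prime.dvd_mul hp').1 h1 with h1 | h1
    · rcases (Nat.Prime.dvd_mul hp').1 h1 with h1 | h1
      · rcases (Nat.Prime.dvd_mul hp').1 h1 with h1 | h1
        · rcases (Nat.Prime.dvd_mul hp').1 h1 with h1 | h1
          · rcases (Nat.Prime.dvd_mul hp').1 h1 with h1 | h1
            · exact absurd (hp'.dvd_of_dvd_pow h1) hpq
            · exact Or.inl (hp'.dvd_of_dvd_pow h1)
          · exact Or.inr (Or.inl (hp'.dvd_of_dvd_pow h1))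
        · exact Or.inr (Or.inr (Or.inl (hp'.dvd_of_dvd_pow h1)))
      · exact Or.inr (Or.inr (Or.inr (Or.inl (hp'.dvd_of_dvd_pow h1))))
    · exact Or.inr (Or.inr (Or.inr (Or.inr (Or.inl h1))))
  · exact Or.inr (Or.inr (Or.inr (Or.inr (Or.inr h1))))

end Fac

/-- a product is not divisible by `p` -/
theorem not_dvd_prod (hpq : ¬ p ∣ q) {a b c d e : ℕ} {i j k l m n : ℕ} (ha : ¬ p ∣ a) (hb : ¬ p ∣ b) (hc : ¬ p ∣ c)
    (hd : ¬ p ∣ d) (he : ¬ p ∣ e) : ¬ p ∣ q ^ i * a ^ j * b ^ k * c ^ l * d ^ m * e ^ n := by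
  have hp' := hp.out
  intro h1
  rcases (Nat.Prime.dvd_mul hp').1 h1 with h1 | h1
  · rcases (Nat.Prime.dvd_mul hp').1 h1 with h1 | h1
    · rcases (Nat.Prime.dvd_mul hp').1 h1 with h1 | h1
      · rcases (Nat.Prime.dvd_mul hp').1 h1 with h1 | h1
        · rcases (Nat.Prime.dvd_mul hp').1 h1 with h1 | h1
          · exact hpq (hp'.dvd_of_dvd_pow h1)
          · exact ha (hp'.dvd_of_dvd_pow h1)
        · exact hb (hp'.dvd_of_dvd_pow h1)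
      · exact hc (hp'.dvd_of_dvd_pow h1)
    · exact hd (hp'.dvd_of_dvd_pow h1)
  · exact he (hp'.dvd_of_dvd_pow h1)

namespace Fac

variable (H : Fac q a b c d e h) (h11 : 11 ≤ p) (hpq : ¬ p ∣ q)
include H h11 hpq

theorem case_b (h1 : p ∣ b) : ∃ R, ¬ p ∣ R ∧ q ^ 24 * a ^ 4 * b ^ 2 * c ^ 2 * d ^ 2 * e * h = b ^ 2 * R :=
  ⟨q ^ 24 * a ^ 4 * c ^ 2 * d ^ 2 * e ^ 1 * h ^ 1, not_dvd_prod hpq
    (fun h => three_ne h11 (res_AB _ (H.ca h) (H.cb h1)))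
    (fun h => two_ne h11 (res_BC _ (H.cb h1) (H.cc h)))
    (fun h => one_ne_zero (res_BD _ (H.cb h1) (H.cd h)))
    (fun h => one_ne_zero (res_BE _ (H.cb h1) (H.ce h)))
    (fun h => two_ne h11 (res_BH _ (H.cb h1) (H.ch h))), by ring⟩

theorem case_c (h1 : p ∣ c) : ∃ R, ¬ p ∣ R ∧ q ^ 24 * a ^ 4 * b ^ 2 * c ^ 2 * d ^ 2 * e * h = c ^ 2 * R :=
  ⟨q ^ 24 * a ^ 4 * b ^ 2 * d ^ 2 * e ^ 1 * h ^ 1, not_dvd_prod hpq
    (fun h => three_ne h11 (res_AC _ (H.ca h) (H.cc h1)))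
    (fun h => two_ne h11 (res_BC _ (H.cb h) (H.cc h1)))
    (fun h => one_ne_zero (res_CD _ (H.cc h1) (H.cd h)))
    (fun h => one_ne_zero (res_CE _ (H.cc h1) (H.ce h)))
    (fun h => two_ne h11 (res_CH _ (H.cc h1) (H.ch h))), by ring⟩

theorem case_d (h1 : p ∣ d) : ∃ R, ¬ p ∣ R ∧ q ^ 24 * a ^ 4 * b ^ 2 * c ^ 2 * d ^ 2 * e * h = d ^ 2 * R :=
  ⟨q ^ 24 * a ^ 4 * b ^ 2 * c ^ 2 * e ^ 1 * h ^ 1, not_dvd_prod hpq
    (fun h => two_ne h11 (res_AD _ (H.ca h) (H.cd h1)))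
    (fun h => one_ne_zero (res_BD _ (H.cb h) (H.cd h1)))
    (fun h => one_ne_zero (res_CD _ (H.cc h) (H.cd h1)))
    (fun h => two_ne h11 (res_DE _ (H.cd h1) (H.ce h)))
    (fun h => three_ne h11 (res_DH _ (H.cd h1) (H.ch h))), by ring⟩

theorem case_e (h1 : p ∣ e) : ∃ R, ¬ p ∣ R ∧ q ^ 24 * a ^ 4 * b ^ 2 * c ^ 2 * d ^ 2 * e * h = e * R :=
  ⟨q ^ 24 * a ^ 4 * b ^ 2 * c ^ 2 * d ^ 2 * h ^ 1, not_dvd_prod hpq
    (fun h => two_ne h11 (res_AE _ (H.ca h) (H.ce h1)))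
    (fun h => one_ne_zero (res_BE _ (H.cb h) (H.ce h1)))
    (fun h => one_ne_zero (res_CE _ (H.cc h) (H.ce h1)))
    (fun h => two_ne h11 (res_DE _ (H.cd h) (H.ce h1)))
    (fun h => one_ne_zero (res_EH _ (H.ce h1) (H.ch h))), by ring⟩

theorem case_h (h1 : p ∣ h) : ∃ R, ¬ p ∣ R ∧ q ^ 24 * a ^ 4 * b ^ 2 * c ^ 2 * d ^ 2 * e * h = h * R :=
  ⟨q ^ 24 * a ^ 4 * b ^ 2 * c ^ 2 * d ^ 2 * e ^ 1, not_dvd_prod hpq
    (fun h => one_ne_zero (res_AH _ (H.ca h) (H.ch h1)))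
    (fun h => two_ne h11 (res_BH _ (H.cb h) (H.ch h1)))
    (fun h => two_ne h11 (res_CH _ (H.cc h) (H.ch h1)))
    (fun h => three_ne h11 (res_DH _ (H.cd h) (H.ch h1)))
    (fun h => one_ne_zero (res_EH _ (H.ce h) (H.ch h1))), by ring⟩

end Fac

end

end Cfsg.Agent.H352.KE
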