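import Cfsg.Agent.H352.KE.F4Data
import Cfsg.Agent.H352.KE.Arith
import Cfsg.Agent.H296.KB.Rank
import Cfsg.Agent.H349.KBE.TwoRows
import Cfsg.Agent.H508.KB.Defs
import Cfsg.Agent.H77.E4ClsB
import Cfsg.Agent.S1062

/-!
# `F₄`: `p ≤ k(B₀(S))` (helper352; S4822, KE2)
-/

set_option autoImplicit false
set_option linter.unusedSectionVars false

namespace Cfsg.Agent.H352.KE.F4

open Cfsg Cfsg.Lie Cfsg.Lie.ChevalleyDatum Subgroup
open Cfsg.Agent.ChevalleyStructure Cfsg.Agent.ChevalleyStructure.Elts Cfsg.Agent.ChevalleyStructure.CoxeterGeomTypes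
open Cfsg.Agent.Nodes.RGDChev Cfsg.Agent.H129.WData Cfsg.Agent.H210.EL Cfsg.Agent.H129.TorusChar
open Cfsg.Agent.H508.KB

universe u

section units

variable {p : ℕ} [hp : Fact p.Prime] {m N : ℕ} (hm : m = p ^ N)

include hm in
theorem isUnit_nat {n : ℕ} (h : ¬ p ∣ n) : IsUnit (n : ZMod m) := by
  rw [ZMod.isUnit_iff_coprime, hm]
  exact Nat.Coprime.pow_right _ (((Nat.Prime.coprime_iff_not_dvd hp.out).2 h).symm)

include hm in
theorem isUnit_two (h11 : 11 ≤ p) : IsUnit (2 : ZMod m) := by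
  have h := isUnit_nat hm (n := 2) (fun h => by have := Nat.le_of_dvd (by norm_num) h; omega)
  exact_mod_cast h

include hm in
theorem isUnit_three (h11 : 11 ≤ p) : IsUnit (3 : ZMod m) := by
  have h := isUnit_nat hm (n := 3) (fun h => by have := Nat.le_of_dvd (by norm_num) h; omega)
  exact_mod_cast h

end units

section three

variable {p : ℕ} [hp : Fact p.Prime] {M : Ideal AlgInt} {S : Type u} [Group S] [Finite S]

/-- D9' as a hypothesis -/
def D9 (p : ℕ) [Fact p.Prime] (M : Ideal AlgInt) (S : Type u) [Group S] [Finite S] : Prop :=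
  ∀ (P : Sylow p S) (x y : S) (_ : Commute x y) (_ : (P : Subgroup S) = closure {x, y}) (_ : y ∉ zpowers x)
    (c : S) (_ : Commute c x) (j : ℕ) (_ : c * y * c⁻¹ = y ^ j),
    orderOf (j : ZMod p) ≤ blockRank p (principalBlock M ↥(centralizer ({x} : Set S)))

/-- D8' as a hypothesis -/
def D8 (p : ℕ) [Fact p.Prime] (M : Ideal AlgInt) (S : Type u) [Group S] [Finite S] : Prop :=
  ∀ (x x' : S) (k k' : ℕ)
    (_ : orderOf x = p ^ k) (_ : orderOf x' = p ^ k') (_ : k ≠ 0) (_ : k' ≠ 0) (e e' b b' : ℕ)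
    (_ : ∀ (g : S) (i : ℕ), g * x * g⁻¹ = x ^ i → (i : ZMod p) ^ e = 1)
    (_ : ∀ (g : S) (i : ℕ), g * x' * g⁻¹ = x' ^ i → (i : ZMod p) ^ e' = 1)
    (_ : ∀ (g : S) (i : ℕ), g * x * g⁻¹ ≠ x' ^ i)
    (_ : b ≤ blockRank p (principalBlock M ↥(centralizer ({x} : Set S))))
    (_ : b' ≤ blockRank p (principalBlock M ↥(centralizer ({x'} : Set S)))),
    (p - 1) / e * b + (p - 1) / e' * b' + blockRank p (principalBlock M S) ≤ kB M S

/-- D7 as a hypothesis -/
def D7 (p : ℕ) [Fact p.Prime] (M : Ideal AlgInt) (S : Type u) [Group S] [Finite S] : Prop :=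
  ∀ (P : Sylow p S) (x y : S)
    (_ : Commute x y) (_ : (P : Subgroup S) = closure {x, y}) (_ : x ≠ 1) (_ : y ∉ zpowers x)
    (_ : zpowers x ⊓ zpowers y = ⊥) (e : ℕ)
    (_ : ∀ (g : S) (i : ℕ), g * x * g⁻¹ = x ^ i → (i : ZMod p) ^ e = 1)
    (c : S) (_ : Commute c x) (j : ℕ) (_ : c * y * c⁻¹ = y ^ j),
    (p - 1) / e * orderOf (j : ZMod p) + 1 ≤ kB M S

theorem order_three {τ : ZMod p} (h11 : 11 ≤ p) (h : τ ^ 2 + τ + 1 = 0) : orderOf τ = 3 := by
  have : Fact (Nat.Prime 3) := ⟨Nat.prime_three⟩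
  refine orderOf_eq_prime (by linear_combination (τ - 1) * h) ?_
  rintro rfl
  apply three_ne h11
  linear_combination h

theorem order_four {τ : ZMod p} (h11 : 11 ≤ p) (h : τ ^ 2 + 1 = 0) : orderOf τ = 4 := by
  have : Fact (Nat.Prime 2) := ⟨Nat.prime_two⟩
  have h1 : orderOf τ = 2 ^ (1 + 1) := by
    apply orderOf_eq_prime_pow
    · intro h2
      apply two_ne h11
      rw [pow_one] at h2
      linear_combination h - h2
    · show τ ^ 4 = 1
      linear_combination (τ ^ 2 - 1) * h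
  exact h1

/-- **`d = 3, 6`.** -/
theorem three (h11 : 11 ≤ p) (hM : IsPModular p M) (d8 : D8 p M S) (d9 : D9 p M S) {F : Type} [Field F] [Fintype F]
    {m N : ℕ} (hm : m = p ^ N) (hN : N ≠ 0) {W : Mat 4} {X : (Fin 4 → ZMod m) → S}
    (H : Fra chevF4 4 F m Am W S X) {t : ZMod m} (ht : t ^ 2 + t + 1 = 0)
    (hW : ∀ a, H210.EL.EigOK (hd cw) t a → Eig F W a) (hc : CommOK (hd cv) W) (hc2 : CommOK (hd cv2) W) {R : ℕ}
    (hR : ¬ p ∣ R) (hG : Nat.card S = m ^ 2 * R) : p ≤ kB M S := by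
  have hp' := hp.out
  have hpm : p ∣ m := by
    rw [hm]
    exact dvd_pow_self _ hN
  have hm0 : m ≠ 0 := by
    rw [hm]
    exact pow_ne_zero _ hp'.ne_zero
  have : NeZero m := ⟨hm0⟩
  have hm1 : m ≠ 1 := by
    rintro rfl
    exact hp'.one_lt.ne' (Nat.dvd_one.1 hpm)
  have ht' : t ^ 2 = ((-1 : ℤ) : ZMod m) * t + ((-1 : ℤ) : ZMod m) := by
    push_cast
    linear_combination ht
  have e01 : qev t (0, 1) = t := by
    unfold qev
    push_cast
    ring
  have e10 : qev t (1, 0) = 1 := qev_one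
  -- the vectors
  set a : Fin 4 → ZMod m := qv t A3 with ha'
  set b : Fin 4 → ZMod m := qv t B3 with hb'
  have ha : Eig F W a := hW _ (by
    have h := eigA3.eigOK ht'
    rwa [e01] at h)
  have hb : Eig F W b := hW _ (by
    have h := eigB3.eigOK ht'
    rwa [e01] at h)
  have va : ∀ j, ∑ n, (hd cv j n : ZMod m) * a n = t * a j := fun j => by
    have h := v_A3.comp ht' j
    rwa [e01] at h
  have vb : ∀ j, ∑ n, (hd cv j n : ZMod m) * b n = b j := fun j => by
    have h := v_B3.comp ht' j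
    rwa [e10, one_mul] at h
  have va2 : ∀ j, ∑ n, (hd cv2 j n : ZMod m) * a n = a j := fun j => by
    have h := v2_A3.comp ht' j
    rwa [e10, one_mul] at h
  have vb2 : ∀ j, ∑ n, (hd cv2 j n : ZMod m) * b n = t * b j := fun j => by
    have h := v2_B3.comp ht' j
    rwa [e01] at h
  have u2 := isUnit_two hm h11
  have u3 := isUnit_three hm h11
  have hab : ∀ i j : ZMod m, i • a + j • b = 0 → i = 0 ∧ j = 0 := by
    intro i j h
    have h3 := congrFun h 3
    have h2 := congrFun h 2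
    rw [Pi.add_apply, Pi.smul_apply, Pi.smul_apply, smul_eq_mul, smul_eq_mul, Pi.zero_apply, ha', hb'] at h2 h3
    rw [A3_3, B3_3, mul_zero, zero_add] at h3
    have hj : j = 0 := by
      rw [← u3.mul_left_inj, zero_mul]
      exact h3
    refine ⟨?_, hj⟩
    rw [hj, zero_mul, add_zero, A3_2] at h2
    rw [← u2.mul_left_inj, zero_mul]
    exact h2
  have hba : ∀ i j : ZMod m, i • b + j • a = 0 → i = 0 ∧ j = 0 := by
    intro i j h
    rw [add_comm] at h
    exact (hab j i h).symm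
  -- orders
  have hoa : orderOf (X a) = p ^ N := by
    rw [← hm]
    exact H.order ha fun i h => (hab i 0 (by rw [h, zero_smul, add_zero])).1
  have hob : orderOf (X b) = p ^ N := by
    rw [← hm]
    exact H.order hb fun i h => (hab 0 i (by rw [h, zero_smul, add_zero])).2
  -- the Sylow subgroup
  obtain ⟨P, hP⟩ := H.exists_sylow hm ha hb hab hR hG
  -- the action
  have hω : t ^ 2 * t = 1 := by linear_combination (t - 1) * ht
  obtain ⟨c, hcb, hca⟩ := H.exists_c ha hb cv_ok hc vb va hω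
  obtain ⟨c', hca', hcb'⟩ := H.exists_c hb ha cv2_ok hc2 va2 vb2 hω
  have hord : orderOf (((t ^ 2).val : ℕ) : ZMod p) = 3 := by
    rw [val_cast hpm, map_pow]
    set τ := ZMod.castHom hpm (ZMod p) t with hτ
    have h1 : τ ^ 2 + τ + 1 = 0 := by
      rw [hτ, ← map_pow, ← map_add, ← map_one (ZMod.castHom hpm (ZMod p)), ← map_add, ht, map_zero]
    exact order_three h11 (by linear_combination (τ ^ 2 - τ + 1) * h1)
  have r1 := d9 P (X b) (X a) (H.comm hb ha) hP (H.not_mem hm1 ha hb hab) c hcb _ hca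
  have r2 := d9 P (X a) (X b) (H.comm ha hb) (by rw [hP, Set.pair_comm]) (H.not_mem hm1 hb ha hba) c' hca' _ hcb'
  rw [hord] at r1 r2
  -- fusion
  have pa6 : psum chevF4 a 6 = ((1008 : ℤ) : ZMod m) := by
    rw [ha', psum_qv ht', sumA3_6]
    unfold qev
    push_cast
    ring
  have pa12 : psum chevF4 a (2 * 6) = ((78120 : ℤ) : ZMod m) := by
    rw [ha', psum_qv ht', sumA3_12]
    unfold qev
    push_cast
    ring
  have pb6 : psum chevF4 b 6 = ((3402 : ℤ) : ZMod m) := by
    rw [hb', psum_qv ht', sumB3_6]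
    unfold qev
    push_cast
    ring
  have pb12 : psum chevF4 b (2 * 6) = ((3214890 : ℤ) : ZMod m) := by
    rw [hb', psum_qv ht', sumB3_12]
    unfold qev
    push_cast
    ring
  have fa := H.fus_pow hpm ha pa6 (smooth_ne h11 (k := 10) (by norm_num))
  have fb := H.fus_pow hpm hb pb6 (smooth_ne h11 (k := 10) (by norm_num))
  have fab := H.not_fus hpm ha hb pa6 pa12 pb6 pb12 (smooth_ne h11 (k := 40) (by norm_num))
  have h := d8 (X b) (X a) N N hob hoa hN hN 6 6 3 3 fb fa fab r1 r2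
  have h1 := H296.KB.one_le_rank (S := S) hM
  have h6 : 6 ∣ p - 1 := by
    have h3 : 3 ∣ p - 1 := by
      rw [← hord]
      exact ZMod.orderOf_dvd_card_sub_one (by
        intro h0
        rw [h0] at hord
        have := orderOf_pos_iff.1 (by rw [hord]; norm_num : 0 < orderOf (0 : ZMod p))
        rw [isOfFinOrder_iff_pow_eq_one] at this
        obtain ⟨n, hn, h2⟩ := this
        rw [zero_pow hn.ne'] at h2
        exact zero_ne_one h2)
    have h2 : 2 ∣ p - 1 := by
      have := hp'.eq_two_or_odd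
      omega
    omega
  omega

/-- **`d = 4`.** -/
theorem four (h11 : 11 ≤ p) (d7 : D7 p M S) {F : Type} [Field F] [Fintype F]
    {m N : ℕ} (hm : m = p ^ N) (hN : N ≠ 0) {X : (Fin 4 → ZMod m) → S}
    (H : Fra chevF4 4 F m Am (hd cw4) S X) (ht : (Fintype.card F : ZMod m) ^ 2 + 1 = 0) {R : ℕ}
    (hR : ¬ p ∣ R) (hG : Nat.card S = m ^ 2 * R) : p ≤ kB M S := by
  have hp' := hp.out
  have hpm : p ∣ m := by
    rw [hm]
    exact dvd_pow_self _ hN
  have hm0 : m ≠ 0 := by
    rw [hm]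
    exact pow_ne_zero _ hp'.ne_zero
  have : NeZero m := ⟨hm0⟩
  have hm1 : m ≠ 1 := by
    rintro rfl
    exact hp'.one_lt.ne' (Nat.dvd_one.1 hpm)
  set t : ZMod m := (Fintype.card F : ZMod m) with ht0
  have ht' : t ^ 2 = ((0 : ℤ) : ZMod m) * t + ((-1 : ℤ) : ZMod m) := by
    push_cast
    linear_combination ht
  have e01 : qev t (0, 1) = t := by
    unfold qev
    push_cast
    ring
  have e10 : qev t (1, 0) = 1 := qev_one
  -- the vectors
  set a : Fin 4 → ZMod m := qv t A4 with ha'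
  set b : Fin 4 → ZMod m := qv t B4 with hb'
  have ha : Eig F (hd cw4) a := by
    have h := eigA4.eigOK ht'
    rwa [e01] at h
  have hb : Eig F (hd cw4) b := by
    have h := eigB4.eigOK ht'
    rwa [e01] at h
  have va : ∀ j, ∑ n, (hd cv4 j n : ZMod m) * a n = t * a j := fun j => by
    have h := v_A4.comp ht' j
    rwa [e01] at h
  have vb : ∀ j, ∑ n, (hd cv4 j n : ZMod m) * b n = b j := fun j => by
    have h := v_B4.comp ht' j
    rwa [e10, one_mul] at h
  have u2 := isUnit_two hm h11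
  have hab : ∀ i j : ZMod m, i • a + j • b = 0 → i = 0 ∧ j = 0 := by
    intro i j h
    have h3 := congrFun h 3
    have h2 := congrFun h 1
    rw [Pi.add_apply, Pi.smul_apply, Pi.smul_apply, smul_eq_mul, smul_eq_mul, Pi.zero_apply, ha', hb'] at h2 h3
    rw [A4_1, B4_1, mul_zero, add_zero] at h2
    rw [A4_3, B4_3] at h3
    have hi : i = 0 := by
      rw [← u2.mul_left_inj, zero_mul]
      linear_combination t * h2 + 2 * i * ht
    refine ⟨hi, ?_⟩
    rw [hi, zero_mul, zero_add] at h3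
    rw [← u2.mul_left_inj, zero_mul]
    exact h3
  -- the Sylow subgroup
  obtain ⟨P, hP⟩ := H.exists_sylow hm ha hb hab hR hG
  have hx1 : X b ≠ 1 := by
    intro h
    have h1 := H.inj b hb h
    have h2 := (hab 0 1 (by rw [h1, smul_zero, zero_smul, add_zero])).2
    have : Fact (1 < m) := ⟨by omega⟩
    exact one_ne_zero h2
  -- the action
  have hω : -t * t = 1 := by linear_combination -ht
  obtain ⟨c, hcb, hca⟩ := H.exists_c ha hb cv4_ok comm4 vb va hω
  have hord : orderOf (((-t).val : ℕ) : ZMod p) = 4 := by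
    rw [val_cast hpm, map_neg]
    set τ := ZMod.castHom hpm (ZMod p) t with hτ
    have h1 : τ ^ 2 + 1 = 0 := by
      rw [hτ, ← map_pow, ← map_one (ZMod.castHom hpm (ZMod p)), ← map_add, ht, map_zero]
    exact order_four h11 (by linear_combination h1)
  -- fusion
  have pb8 : psum chevF4 b 8 = ((21760 : ℤ) : ZMod m) := by
    rw [hb', psum_qv ht', sumB4_8]
    unfold qev
    push_cast
    ring
  have pb12 : psum chevF4 b 12 = ((-967680 : ℤ) : ZMod m) := by
    rw [hb', psum_qv ht', sumB4_12]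
    unfold qev
    push_cast
    ring
  have f12 := H.fus_pow hpm hb pb12 (smooth_ne h11 (k := 10) (by norm_num))
  have f4 : ∀ (g : S) (i : ℕ), g * X b * g⁻¹ = X b ^ i → (i : ZMod p) ^ 4 = 1 := by
    intro g i h
    have h1 := f12 g i h
    by_cases h17 : p = 17
    · have hi : (i : ZMod p) ≠ 0 := by
        intro h0
        rw [h0, zero_pow (by norm_num)] at h1
        exact zero_ne_one h1
      have h2 := ZMod.pow_card_sub_one_eq_one hi
      have h3 : p - 1 = 16 := by omega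
      rw [h3] at h2
      calc (i : ZMod p) ^ 4 = (i : ZMod p) ^ 4 * (i : ZMod p) ^ 12 := by rw [h1, mul_one]
        _ = (i : ZMod p) ^ 16 := by rw [← pow_add]
        _ = 1 := h2
    · have h2 := H.fus_pow hpm hb pb8 (p := p) (by
        intro h0
        have h5 : (17 : ZMod p) ≠ 0 := by
          intro h6
          have h7 : ((17 : ℕ) : ZMod p) = 0 := by exact_mod_cast h6
          exact h17 ((Nat.prime_dvd_prime_iff_eq hp' (by norm_num)).1 ((ZMod.natCast_eq_zero_iff _ _).1 h7))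
        have h8 : ((1280 : ℤ) : ZMod p) ≠ 0 := smooth_ne h11 (k := 10) (by norm_num)
        apply mul_ne_zero h8 h5
        rw [← h0]
        push_cast
        norm_num) g i h
      calc (i : ZMod p) ^ 4 = (i : ZMod p) ^ 4 * (i : ZMod p) ^ 8 := by rw [h2, mul_one]
        _ = (i : ZMod p) ^ 12 := by rw [← pow_add]
        _ = 1 := h1
  have h := d7 P (X b) (X a) (H.comm hb ha) hP hx1 (H.not_mem hm1 ha hb hab) (H.disj ha hb hab) 4 f4 c hcb _ hca
  rw [hord] at h
  have h4 : 4 ∣ p - 1 := by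
    rw [← hord]
    exact ZMod.orderOf_dvd_card_sub_one (by
      intro h0
      rw [h0] at hord
      have := orderOf_pos_iff.1 (by rw [hord]; norm_num : 0 < orderOf (0 : ZMod p))
      rw [isOfFinOrder_iff_pow_eq_one] at this
      obtain ⟨n, hn, h2⟩ := this
      rw [zero_pow hn.ne'] at h2
      exact zero_ne_one h2)
  have := hp'.one_lt
  omega

/-- `p` classes of elements of order dividing `p` -/
theorem of_cls (hM : IsPModular p M) (h : H349.KBE.Cls p S) : p ≤ kB M S := by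
  have hp' := hp.out
  obtain ⟨X, hX, h1, h2⟩ := h
  have h3 := H296.KB.sum_le_kB hM X (fun x hx => by
    rcases (Nat.dvd_prime hp').1 (orderOf_dvd_of_pow_eq_one (h1 x hx)) with h | h
    · exact ⟨0, by rw [h, pow_zero]⟩
    · exact ⟨1, by rw [h, pow_one]⟩) h2
  refine le_trans ?_ h3
  calc p = ∑ x ∈ X, 1 := by rw [Finset.sum_const, hX, smul_eq_mul, mul_one]
    _ ≤ _ := Finset.sum_le_sum fun x _ => H296.KB.one_le_rank hM

end three

section sylow

variable {p : ℕ} [hp : Fact p.Prime]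

/-- cyclic Sylow subgroups from an element of large order -/
theorem isCyclic_sylow {G : Type*} [Group G] [Finite G] {x : G} {n R : ℕ} (hn0 : n ≠ 0) (hG : Nat.card G = n * R)
    (hR : ¬ p ∣ R) (hx : n ∣ orderOf x) (P : Sylow p G) : IsCyclic (P : Subgroup G) := by
  have hp' := hp.out
  obtain ⟨N, n', hn', hn⟩ := Nat.exists_eq_pow_mul_and_not_dvd hn0 p hp'.ne_one
  have hR0 : R ≠ 0 := by
    rintro rfl
    exact hR (dvd_zero _)
  have h1 : p ^ N ∣ orderOf x := (Dvd.intro _ hn.symm).trans hx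
  obtain ⟨k, hk⟩ := h1
  have hk0 : k ≠ 0 := by
    rintro rfl
    rw [mul_zero] at hk
    exact (orderOf_pos x).ne' hk
  have ho : orderOf (x ^ k) = p ^ N := by
    rw [orderOf_pow_of_dvd hk0 ⟨p ^ N, by rw [hk, mul_comm]⟩, hk, Nat.mul_div_cancel _ (Nat.pos_of_ne_zero hk0)]
  have hc : Nat.card ↥(zpowers (x ^ k)) = p ^ (Nat.card G).factorization p := by
    have hn0' : n' ≠ 0 := by
      rintro rfl
      exact hn' (dvd_zero _)
    rw [Nat.card_zpowers, ho, hG, hn, Nat.factorization_mul (mul_ne_zero (pow_ne_zero _ hp'.ne_zero) hn0') hR0,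
      Nat.factorization_mul (pow_ne_zero _ hp'.ne_zero) hn0', Finsupp.add_apply, Finsupp.add_apply,
      Nat.factorization_eq_zero_of_not_dvd hR, Nat.factorization_eq_zero_of_not_dvd hn', add_zero, add_zero,
      hp'.factorization_pow, Finsupp.single_eq_same]
  let Q : Sylow p G := Sylow.ofCard (zpowers (x ^ k)) hc
  have hQ : IsCyclic ↥(zpowers (x ^ k)) := inferInstance
  have e : (Q : Subgroup G) ≃* (P : Subgroup G) := Sylow.equiv Q P
  have : IsCyclic (Q : Subgroup G) := hQ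
  exact isCyclic_of_surjective e.toMonoidHom e.surjective

end sylow

section main

variable {p : ℕ} [hp : Fact p.Prime] {M : Ideal AlgInt} {S : Type u} [Group S] [Finite S]

/-- **`F₄`: `p ≤ k(B₀(S))`.** -/
theorem kB_F4 {r : ℕ} [Fact r.Prime] (hrp : r ≠ p) (h11 : 11 ≤ p) (hM : IsPModular p M) (d7 : D7 p M S) (d8 : D8 p M S)
    (d9 : D9 p M S) {F : Type} [Field F] [Fintype F] [CharP F r] (e : S ≃* ↥(chevF4.group F))
    (hP : ∀ P : Sylow p S, ¬ IsCyclic (P : Subgroup S)) : p ≤ kB M S := by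
  have hp' := hp.out
  have hr' : r.Prime := Fact.out
  set q := Fintype.card F with hq
  have hq1 : 1 ≤ q := Fintype.card_pos
  have hpq : ¬ p ∣ q := by
    obtain ⟨n, -, hn⟩ := FiniteField.card F r
    rw [hq, hn]
    intro h
    exact hrp ((Nat.prime_dvd_prime_iff_eq hp' hr').1 (hp'.dvd_of_dvd_pow h)).symm
  have hpF : ((p : ℕ) : F) ≠ 0 := by
    rw [Ne, CharP.cast_eq_zero_iff F r p]
    intro h
    exact hrp ((Nat.prime_dvd_prime_iff_eq hr' hp').1 h)
  have hmF : ∀ N : ℕ, ((p ^ N : ℕ) : F) ≠ 0 := fun N => by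
    rw [Nat.cast_pow]
    exact pow_ne_zero _ hpF
  obtain ⟨a, b, c, d, e', h, H⟩ := exists_fac hq1
  have hcard : Nat.card S = q ^ 24 * a ^ 4 * b ^ 2 * c ^ 2 * d ^ 2 * e' * h := by
    rw [Nat.card_congr e.toEquiv, S1062.result (F := F) (q := q) rfl, H.hcard]
  have hpos : ∀ {n : ℕ} {z : ℤ}, (n : ℤ) = z → z ≠ 0 → n ≠ 0 := by
    rintro n z h1 h2 rfl
    exact h2 (by rw [← h1]; rfl)
  by_cases hdv : p ∣ Nat.card S
  swap
  · exfalso
    obtain ⟨P⟩ : Nonempty (Sylow p S) := inferInstance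
    apply hP P
    have h1 : Nat.card (P : Subgroup S) = 1 := by
      rw [P.card_eq_multiplicity, Nat.factorization_eq_zero_of_not_dvd hdv, pow_zero]
    rw [Subgroup.card_eq_one] at h1
    rw [h1]
    infer_instance
  rw [hcard] at hdv
  have hqz : (1 : ℤ) ≤ q := by exact_mod_cast hq1
  rcases Fac.cases H hpq hdv with h1 | h1 | h1 | h1 | h1 | h1
  · -- `d = 1, 2`
    have h2 : a = q ^ 2 - 1 := by
      have h3 : 1 ≤ q ^ 2 := Nat.one_le_pow _ _ hq1
      zify [h3]
      exact H.ha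
    rw [h2] at h1
    exact of_cls hM ((H349.KBE.cls_F4 (r := r) (by omega) (fun h => hrp h.symm) h1).congr e)
  · -- `d = 3`
    have hb0 : b ≠ 0 := hpos H.hb (by positivity)
    obtain ⟨N, b', hb', hb⟩ := Nat.exists_eq_pow_mul_and_not_dvd hb0 p hp'.ne_one
    obtain ⟨R, hR, hR'⟩ := H.case_b h11 hpq h1
    have hN : N ≠ 0 := by
      rintro rfl
      rw [pow_zero, one_mul] at hb
      exact hb' (hb ▸ h1)
    have : NeZero (p ^ N) := ⟨pow_ne_zero _ hp'.ne_zero⟩
    obtain ⟨X, HX⟩ := exists_fra (D := chevF4) (l := 4) (M := CoxeterMatrix.F₄) (by simp [IsType, typeList]) (hmF N) invC_F4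
      hA cw_ok e
    refine three h11 hM d8 d9 rfl hN HX (t := (q : ZMod (p ^ N))) ?_ (fun a h => h) comm_w comm2_w
      (R := b' ^ 2 * R) ?_ ?_
    · have h2 := cast_of H.hb (m := p ^ N)
      have h3 : (b : ZMod (p ^ N)) = 0 := (ZMod.natCast_eq_zero_iff _ _).2 ⟨b', hb⟩
      rw [h3] at h2
      push_cast at h2
      exact h2.symm
    · intro h2
      rcases (Nat.Prime.dvd_mul hp').1 h2 with h2 | h2
      · exact hb' (hp'.dvd_of_dvd_pow h2)
      · exact hR h2
    · rw [hcard, hR', hb]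
      ring
  · -- `d = 6`
    have hc0 : c ≠ 0 := hpos H.hc (by nlinarith)
    obtain ⟨N, b', hb', hb⟩ := Nat.exists_eq_pow_mul_and_not_dvd hc0 p hp'.ne_one
    obtain ⟨R, hR, hR'⟩ := H.case_c h11 hpq h1
    have hN : N ≠ 0 := by
      rintro rfl
      rw [pow_zero, one_mul] at hb
      exact hb' (hb ▸ h1)
    have : NeZero (p ^ N) := ⟨pow_ne_zero _ hp'.ne_zero⟩
    obtain ⟨X, HX⟩ := exists_fra (D := chevF4) (l := 4) (M := CoxeterMatrix.F₄) (by simp [IsType, typeList]) (hmF N) invC_F4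
      hA cm_ok e
    refine three h11 hM d8 d9 rfl hN HX (t := -(q : ZMod (p ^ N))) ?_ (fun a h j => ?_) comm_m comm2_m
      (R := b' ^ 2 * R) ?_ ?_
    · have h2 := cast_of H.hc (m := p ^ N)
      have h3 : (c : ZMod (p ^ N)) = 0 := (ZMod.natCast_eq_zero_iff _ _).2 ⟨b', hb⟩
      rw [h3] at h2
      push_cast at h2
      linear_combination -h2
    · have h2 := h j
      have h3 : ∀ n, (hd cm j n : ZMod (p ^ N)) * a n = -((hd cw j n : ZMod (p ^ N)) * a n) := by
        intro n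
        rw [neg_w]
        push_cast
        ring
      rw [Finset.sum_congr rfl fun n _ => h3 n, Finset.sum_neg_distrib, h2]
      ring
    · intro h2
      rcases (Nat.Prime.dvd_mul hp').1 h2 with h2 | h2
      · exact hb' (hp'.dvd_of_dvd_pow h2)
      · exact hR h2
    · rw [hcard, hR', hb]
      ring
  · -- `d = 4`
    have hd0 : d ≠ 0 := hpos H.hd (by positivity)
    obtain ⟨N, b', hb', hb⟩ := Nat.exists_eq_pow_mul_and_not_dvd hd0 p hp'.ne_one
    obtain ⟨R, hR, hR'⟩ := H.case_d h11 hpq h1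
    have hN : N ≠ 0 := by
      rintro rfl
      rw [pow_zero, one_mul] at hb
      exact hb' (hb ▸ h1)
    have : NeZero (p ^ N) := ⟨pow_ne_zero _ hp'.ne_zero⟩
    obtain ⟨X, HX⟩ := exists_fra (D := chevF4) (l := 4) (M := CoxeterMatrix.F₄) (by simp [IsType, typeList]) (hmF N) invC_F4
      hA cw4_ok e
    refine four h11 d7 rfl hN HX ?_ (R := b' ^ 2 * R) ?_ ?_
    · have h2 := cast_of H.hd (m := p ^ N)
      have h3 : (d : ZMod (p ^ N)) = 0 := (ZMod.natCast_eq_zero_iff _ _).2 ⟨b', hb⟩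
      rw [h3] at h2
      push_cast at h2
      exact h2.symm
    · intro h2
      rcases (Nat.Prime.dvd_mul hp').1 h2 with h2 | h2
      · exact hb' (hp'.dvd_of_dvd_pow h2)
      · exact hR h2
    · rw [hcard, hR', hb]
      ring
  · -- `d = 8`
    exfalso
    obtain ⟨R, hR, hR'⟩ := H.case_e h11 hpq h1
    obtain ⟨x, hx⟩ := H77.E4ClsB.tor_F8 F
    obtain ⟨P⟩ : Nonempty (Sylow p S) := inferInstance
    have he : e' = Nat.card F ^ 4 + 1 := by
      rw [Nat.card_eq_fintype_card]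
      have := H.he
      exact_mod_cast this
    refine hP P (isCyclic_sylow (x := e.symm x) (hpos H.he (by positivity)) (hcard.trans hR') hR ?_ P)
    rw [he, MulEquiv.orderOf_eq]
    exact hx
  · -- `d = 12`
    exfalso
    obtain ⟨R, hR, hR'⟩ := H.case_h h11 hpq h1
    obtain ⟨T, hT, hcT, -⟩ := H129.CycT.exact_F4_12 (F := F) rfl H.hh
    obtain ⟨x, hx⟩ := hT.exists_generator
    have hox : orderOf (x : ↥(chevF4.group F)) = h := by
      rw [Subgroup.orderOf_coe, orderOf_eq_card_of_forall_mem_zpowers hx, hcT]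
    obtain ⟨P⟩ : Nonempty (Sylow p S) := inferInstance
    refine hP P (isCyclic_sylow (x := e.symm (x : ↥(chevF4.group F))) (hpos H.hh (by nlinarith [sq_nonneg ((q : ℤ) ^ 2 - 1)])) (hcard.trans hR') hR ?_ P)
    rw [MulEquiv.orderOf_eq, hox]

end main

end Cfsg.Agent.H352.KE.F4
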