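import Cfsg.Agent.H352.KE.Line
import Cfsg.Agent.BpExc.RowsUntw

/-!
# `F₄`: data (helper352; S4822, KE2)
-/

set_option autoImplicit false
set_option linter.unusedSectionVars false
set_option maxRecDepth 100000
set_option maxHeartbeats 8000000

namespace Cfsg.Agent.H352.KE.F4

open Cfsg Cfsg.Lie Cfsg.Lie.ChevalleyDatum Subgroup
open Cfsg.Agent.ChevalleyStructure Cfsg.Agent.ChevalleyStructure.Elts Cfsg.Agent.ChevalleyStructure.CoxeterGeomTypes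
open Cfsg.Agent.Nodes.RGDChev Cfsg.Agent.H129.WData Cfsg.Agent.H210.EL Cfsg.Agent.H129.TorusChar

/-- the Cartan matrix -/
def Am : Mat 4 := ![![2, -1, 0, 0], ![-1, 2, -2, 0], ![0, -1, 2, -1], ![0, 0, -1, 2]]

/-- `v` -/
def cv : List (Fin 4 × Mat 4) := [
    (0, ![![0, 1, 0, 0], ![-1, -1, 0, 0], ![2, 2, 1, 0], ![0, 0, 0, 1]]),
    (1, ![![1, 1, 0, 0], ![0, -1, 0, 0], ![0, 2, 1, 0], ![0, 0, 0, 1]])]

/-- `w` -/
def cw : List (Fin 4 × Mat 4) := [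
    (0, ![![0, 1, 0, 0], ![-1, -1, 0, 0], ![2, 2, 1, 1], ![-2, -4, -3, -2]]),
    (1, ![![1, 1, 0, 0], ![0, -1, 0, 0], ![0, 2, 1, 1], ![-2, -4, -3, -2]]),
    (2, ![![1, 0, 0, 0], ![0, 1, 0, 0], ![0, 0, 1, 1], ![-2, -4, -3, -2]]),
    (1, ![![1, 0, 0, 0], ![0, 1, 1, 0], ![0, 0, 0, 1], ![-2, -4, -3, -2]]),
    (0, ![![1, 1, 0, 0], ![0, 1, 1, 0], ![0, 0, 0, 1], ![-2, -4, -3, -2]]),
    (2, ![![0, 1, 0, 0], ![1, 1, 1, 0], ![0, 0, 0, 1], ![-2, -4, -3, -2]]),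
    (1, ![![0, 1, 1, 0], ![1, 1, 0, 0], ![0, 0, 1, 1], ![-2, -4, -3, -2]]),
    (2, ![![0, 1, 1, 0], ![1, 0, 0, 0], ![0, 2, 1, 1], ![-2, -4, -3, -2]]),
    (3, ![![0, 1, 0, 0], ![1, 0, 0, 0], ![0, 2, 2, 1], ![-2, -4, -3, -2]]),
    (2, ![![0, 1, 0, 0], ![1, 0, 0, 0], ![0, 2, 2, 1], ![-2, -4, -3, -1]]),
    (1, ![![0, 1, 1, 0], ![1, 0, 0, 0], ![0, 2, 1, 1], ![-2, -4, -2, -1]]),
    (0, ![![0, 1, 1, 0], ![1, 1, 0, 0], ![0, 0, 1, 1], ![-2, -2, -2, -1]]),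
    (2, ![![1, 1, 1, 0], ![0, 1, 0, 0], ![0, 0, 1, 1], ![0, -2, -2, -1]]),
    (1, ![![1, 1, 0, 0], ![0, 1, 1, 0], ![0, 0, 0, 1], ![0, -2, -1, -1]]),
    (2, ![![1, 0, 0, 0], ![0, 1, 1, 0], ![0, 0, 0, 1], ![0, 0, -1, -1]]),
    (3, ![![1, 0, 0, 0], ![0, 1, 0, 0], ![0, 0, 1, 1], ![0, 0, 0, -1]])]

/-- `-w` -/
def cm : List (Fin 4 × Mat 4) := [
    (1, ![![0, -1, 0, 0], ![1, 1, 0, 0], ![-2, -2, -1, -1], ![2, 4, 3, 2]]),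
    (3, ![![0, 1, 0, 0], ![1, 0, 0, 0], ![-2, -2, -1, -1], ![2, 4, 3, 2]]),
    (2, ![![0, 1, 0, 0], ![1, 0, 0, 0], ![-2, -2, -1, 0], ![2, 4, 3, 1]]),
    (1, ![![0, 1, 1, 0], ![1, 0, 0, 0], ![-2, -2, -1, 0], ![2, 4, 2, 1]]),
    (0, ![![0, 1, 1, 0], ![1, 1, 0, 0], ![-2, -2, -1, 0], ![2, 2, 2, 1]]),
    (2, ![![1, 1, 1, 0], ![0, 1, 0, 0], ![0, -2, -1, 0], ![0, 2, 2, 1]]),
    (1, ![![1, 1, 0, 0], ![0, 1, 1, 0], ![0, -2, -1, 0], ![0, 2, 1, 1]]),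
    (2, ![![1, 0, 0, 0], ![0, 1, 1, 0], ![0, 0, -1, 0], ![0, 0, 1, 1]])]

/-- the second factor of `w` -/
def cv2 : List (Fin 4 × Mat 4) := [
    (2, ![![1, 0, 0, 0], ![0, 1, 0, 0], ![0, 0, 1, 1], ![-2, -4, -3, -2]]),
    (1, ![![1, 0, 0, 0], ![0, 1, 1, 0], ![0, 0, 0, 1], ![-2, -4, -3, -2]]),
    (2, ![![1, 1, 0, 0], ![0, 1, 1, 0], ![0, 0, 0, 1], ![-2, -4, -3, -2]]),
    (0, ![![1, 1, 1, 0], ![0, 1, 0, 0], ![0, 0, 1, 1], ![-2, -4, -3, -2]]),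
    (1, ![![0, 1, 1, 0], ![1, 1, 0, 0], ![0, 0, 1, 1], ![-2, -4, -3, -2]]),
    (2, ![![0, 1, 1, 0], ![1, 0, 0, 0], ![0, 2, 1, 1], ![-2, -4, -3, -2]]),
    (3, ![![0, 1, 0, 0], ![1, 0, 0, 0], ![0, 2, 2, 1], ![-2, -4, -3, -2]]),
    (2, ![![0, 1, 0, 0], ![1, 0, 0, 0], ![0, 2, 2, 1], ![-2, -4, -3, -1]]),
    (1, ![![0, 1, 1, 0], ![1, 0, 0, 0], ![0, 2, 1, 1], ![-2, -4, -2, -1]]),
    (2, ![![0, 1, 1, 0], ![1, 1, 0, 0], ![0, 0, 1, 1], ![-2, -2, -2, -1]]),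
    (0, ![![0, 1, 0, 0], ![1, 1, 1, 0], ![0, 0, 0, 1], ![-2, -2, -1, -1]]),
    (1, ![![1, 1, 0, 0], ![0, 1, 1, 0], ![0, 0, 0, 1], ![0, -2, -1, -1]]),
    (2, ![![1, 0, 0, 0], ![0, 1, 1, 0], ![0, 0, 0, 1], ![0, 0, -1, -1]]),
    (3, ![![1, 0, 0, 0], ![0, 1, 0, 0], ![0, 0, 1, 1], ![0, 0, 0, -1]])]

/-- an element with square `-1` -/
def cw4 : List (Fin 4 × Mat 4) := [
    (3, ![![-1, -2, -1, -1], ![0, -1, -1, 0], ![0, 2, 1, 0], ![2, 2, 2, 1]]),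
    (2, ![![-1, -2, -1, 0], ![0, -1, -1, -1], ![0, 2, 1, 1], ![2, 2, 2, 1]]),
    (1, ![![-1, -2, -1, 0], ![0, -1, -1, -1], ![0, 2, 2, 1], ![2, 2, 1, 1]]),
    (2, ![![-1, -1, -1, 0], ![0, -1, -1, -1], ![0, 2, 2, 1], ![2, 2, 1, 1]]),
    (3, ![![-1, -1, 0, 0], ![0, -1, -1, -1], ![0, 2, 1, 1], ![2, 2, 2, 1]]),
    (2, ![![-1, -1, 0, 0], ![0, -1, -1, 0], ![0, 2, 1, 0], ![2, 2, 2, 1]]),
    (0, ![![-1, -1, -1, 0], ![0, -1, 0, 0], ![0, 2, 1, 0], ![2, 2, 1, 1]]),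
    (1, ![![0, -1, -1, 0], ![-1, -1, 0, 0], ![2, 2, 1, 0], ![0, 2, 1, 1]]),
    (2, ![![0, -1, -1, 0], ![-1, 0, 0, 0], ![2, 2, 1, 0], ![0, 0, 1, 1]]),
    (0, ![![0, -1, 0, 0], ![-1, 0, 0, 0], ![2, 2, 1, 0], ![0, 0, 0, 1]]),
    (1, ![![-1, -1, 0, 0], ![1, 0, 0, 0], ![0, 2, 1, 0], ![0, 0, 0, 1]]),
    (0, ![![-1, 0, 0, 0], ![1, 1, 0, 0], ![0, 0, 1, 0], ![0, 0, 0, 1]])]

/-- an element of type `B₂` which commutes with it -/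
def cv4 : List (Fin 4 × Mat 4) := [
    (2, ![![1, 1, 1, 0], ![0, -1, -1, 0], ![0, 2, 1, 0], ![0, 0, 1, 1]]),
    (1, ![![1, 1, 0, 0], ![0, -1, 0, 0], ![0, 2, 1, 0], ![0, 0, 0, 1]])]

theorem hA : ∀ i j, Am i j = cartanOf chevF4 4 i j := by decide +kernel
theorem cv_ok : ChainOK Am cv := by decide +kernel
theorem cw_ok : ChainOK Am cw := by decide +kernel
theorem cm_ok : ChainOK Am cm := by decide +kernel
theorem comm_w : CommOK (hd cv) (hd cw) := by decide +kernel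
theorem comm_m : CommOK (hd cv) (hd cm) := by decide +kernel
theorem cv2_ok : ChainOK Am cv2 := by decide +kernel
theorem cw4_ok : ChainOK Am cw4 := by decide +kernel
theorem cv4_ok : ChainOK Am cv4 := by decide +kernel
theorem comm2_w : CommOK (hd cv2) (hd cw) := by decide +kernel
theorem comm2_m : CommOK (hd cv2) (hd cm) := by decide +kernel
theorem comm4 : CommOK (hd cv4) (hd cw4) := by decide +kernel
theorem neg_w : ∀ i j, hd cm i j = -hd cw i j := by decide +kernel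

/-- the long line -/
def A3 : Fin 4 → ℤ × ℤ := ![(1, 2), (-2, -1), (2, 0), (0, 0)]

/-- the short line -/
def B3 : Fin 4 → ℤ × ℤ := ![(0, 0), (0, 0), (-2, -1), (3, 0)]

/-- the moved line, `d = 4` -/
def A4 : Fin 4 → ℤ × ℤ := ![(1, 1), (0, -2), (-2, 2), (2, 0)]

/-- the fixed line, `d = 4` -/
def B4 : Fin 4 → ℤ × ℤ := ![(-1, 1), (0, 0), (0, 0), (2, 0)]

theorem eigA3 : QEig (-1) (-1) (hd cw) (0, 1) A3 := by decide +kernel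
theorem eigB3 : QEig (-1) (-1) (hd cw) (0, 1) B3 := by decide +kernel
theorem v_A3 : QEig (-1) (-1) (hd cv) (0, 1) A3 := by decide +kernel
theorem v_B3 : QEig (-1) (-1) (hd cv) (1, 0) B3 := by decide +kernel
theorem v2_A3 : QEig (-1) (-1) (hd cv2) (1, 0) A3 := by decide +kernel
theorem v2_B3 : QEig (-1) (-1) (hd cv2) (0, 1) B3 := by decide +kernel
theorem eigA4 : QEig 0 (-1) (hd cw4) (0, 1) A4 := by decide +kernel
theorem eigB4 : QEig 0 (-1) (hd cw4) (0, 1) B4 := by decide +kernel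
theorem v_A4 : QEig 0 (-1) (hd cv4) (0, 1) A4 := by decide +kernel
theorem v_B4 : QEig 0 (-1) (hd cv4) (1, 0) B4 := by decide +kernel

theorem sumA3_6 : qsum chevF4 4 (-1) (-1) A3 6 = (1008, 0) := by decide +kernel
theorem sumA3_12 : qsum chevF4 4 (-1) (-1) A3 12 = (78120, 0) := by decide +kernel
theorem sumB3_6 : qsum chevF4 4 (-1) (-1) B3 6 = (3402, 0) := by decide +kernel
theorem sumB3_12 : qsum chevF4 4 (-1) (-1) B3 12 = (3214890, 0) := by decide +kernel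
theorem sumB4_8 : qsum chevF4 4 0 (-1) B4 8 = (21760, 0) := by decide +kernel
theorem sumB4_12 : qsum chevF4 4 0 (-1) B4 12 = (-967680, 0) := by decide +kernel

section values

variable {m : ℕ} (t : ZMod m)

theorem A3_2 : qv t A3 2 = 2 := by
  show ((2 : ℤ) : ZMod m) + ((0 : ℤ) : ZMod m) * t = 2
  push_cast
  ring

theorem A3_3 : qv t A3 3 = 0 := by
  show ((0 : ℤ) : ZMod m) + ((0 : ℤ) : ZMod m) * t = 0
  push_cast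
  ring

theorem B3_3 : qv t B3 3 = 3 := by
  show ((3 : ℤ) : ZMod m) + ((0 : ℤ) : ZMod m) * t = 3
  push_cast
  ring

theorem A4_1 : qv t A4 1 = -2 * t := by
  show ((0 : ℤ) : ZMod m) + ((-2 : ℤ) : ZMod m) * t = -2 * t
  push_cast
  ring

theorem A4_3 : qv t A4 3 = 2 := by
  show ((2 : ℤ) : ZMod m) + ((0 : ℤ) : ZMod m) * t = 2
  push_cast
  ring

theorem B4_1 : qv t B4 1 = 0 := by
  show ((0 : ℤ) : ZMod m) + ((0 : ℤ) : ZMod m) * t = 0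
  push_cast
  ring

theorem B4_3 : qv t B4 3 = 2 := by
  show ((2 : ℤ) : ZMod m) + ((0 : ℤ) : ZMod m) * t = 2
  push_cast
  ring

end values

end Cfsg.Agent.H352.KE.F4
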