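import Cfsg.Agent.H352.KE.Frame

/-!
# Vectors over `ℤ[s] / (s² - P s - Q)` (helper352; S4822, KE)

Eigenvectors, root values and power sums for the tori of `KE/Frame.lean` with coordinates `x + y s`, where `s` is an element
of `ZMod m` with `s ^ 2 = P s + Q`; all conditions are decidable conditions on integers.
-/

set_option autoImplicit false
set_option linter.unusedSectionVars false

namespace Cfsg.Agent.H352.KE

open Cfsg Cfsg.Lie Cfsg.Lie.ChevalleyDatum
open Cfsg.Agent.ChevalleyStructure Cfsg.Agent.ChevalleyStructure.Elts Cfsg.Agent.ChevalleyStructure.CoxeterGeomTypes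
open Cfsg.Agent.Nodes.RGDChev Cfsg.Agent.H129.WData Cfsg.Agent.H210.EL

/-- multiplication in `ℤ[s] / (s² - P s - Q)` -/
def qmul (P Q : ℤ) (x y : ℤ × ℤ) : ℤ × ℤ :=
  (x.1 * y.1 + x.2 * y.2 * Q, x.1 * y.2 + x.2 * y.1 + x.2 * y.2 * P)

/-- powers in `ℤ[s] / (s² - P s - Q)` -/
def qpow (P Q : ℤ) (x : ℤ × ℤ) : ℕ → ℤ × ℤ
  | 0 => (1, 0)
  | k + 1 => qmul P Q (qpow P Q x k) x

/-- the value -/
def qev {m : ℕ} (s : ZMod m) (x : ℤ × ℤ) : ZMod m := (x.1 : ZMod m) + x.2 * s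

/-- linear forms -/
def qlam {l : ℕ} (A : Fin l → ℤ × ℤ) (x : Fin l → ℤ) : ℤ × ℤ := (∑ n, x n * (A n).1, ∑ n, x n * (A n).2)

/-- power sums over the roots -/
def qsum (D : ChevalleyDatum) (l : ℕ) (P Q : ℤ) (A : Fin l → ℤ × ℤ) (k : ℕ) : ℤ × ℤ :=
  (∑ s : Fin D.nroots, (qpow P Q (qlam A (vec D l s)) k).1, ∑ s : Fin D.nroots, (qpow P Q (qlam A (vec D l s)) k).2)

/-- the vector `A` satisfies `A ∘ W = c A` -/
def QEig (P Q : ℤ) {l : ℕ} (W : Mat l) (c : ℤ × ℤ) (A : Fin l → ℤ × ℤ) : Prop := ∀ j, qlam A (W j) = qmul P Q c (A j)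

instance (P Q : ℤ) {l : ℕ} (W : Mat l) (c : ℤ × ℤ) (A : Fin l → ℤ × ℤ) : Decidable (QEig P Q W c A) := by
  unfold QEig; infer_instance

section

variable {m : ℕ} {s : ZMod m} {P Q : ℤ}

theorem qev_mul (h : s ^ 2 = P * s + Q) (x y : ℤ × ℤ) : qev s (qmul P Q x y) = qev s x * qev s y := by
  unfold qev qmul
  push_cast
  linear_combination (-(x.2 : ZMod m) * y.2) * h

theorem qev_one : qev s (1, 0) = 1 := by
  unfold qev
  push_cast
  ring

theorem qev_pow (h : s ^ 2 = P * s + Q) (x : ℤ × ℤ) (k : ℕ) : qev s (qpow P Q x k) = qev s x ^ k := by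
  induction k with
  | zero => rw [qpow, qev_one, pow_zero]
  | succ k ih => rw [qpow, qev_mul h, ih, pow_succ]

theorem qev_lam {l : ℕ} (A : Fin l → ℤ × ℤ) (x : Fin l → ℤ) : lam (fun n => qev s (A n)) x = qev s (qlam A x) := by
  unfold lam qev qlam
  push_cast
  rw [Finset.sum_mul, ← Finset.sum_add_distrib]
  refine Finset.sum_congr rfl fun n _ => ?_
  ring

/-- the vector modulo `m` -/
def qv {l : ℕ} (s : ZMod m) (A : Fin l → ℤ × ℤ) : Fin l → ZMod m := fun n => qev s (A n)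

theorem QEig.comp (h : s ^ 2 = P * s + Q) {l : ℕ} {W : Mat l} {c : ℤ × ℤ} {A : Fin l → ℤ × ℤ} (hA : QEig P Q W c A)
    (j : Fin l) : ∑ n, (W j n : ZMod m) * qv s A n = qev s c * qv s A j := by
  have h1 := qev_lam (s := s) A (W j)
  rw [hA j, qev_mul h] at h1
  exact h1

theorem QEig.eigOK (h : s ^ 2 = P * s + Q) {l : ℕ} {W : Mat l} {c : ℤ × ℤ} {A : Fin l → ℤ × ℤ} (hA : QEig P Q W c A) :
    H210.EL.EigOK W (qev s c) (qv s A) := hA.comp h

/-- eigenvectors, times a scalar -/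
theorem eigOK_smul {l : ℕ} {W : Mat l} {c : ZMod m} {a : Fin l → ZMod m} (ha : H210.EL.EigOK W c a) (i : ZMod m) :
    H210.EL.EigOK W c (i • a) := by
  intro j
  have h1 := congrArg (fun z => i * z) (ha j)
  simp only [Finset.mul_sum] at h1
  simp only [Pi.smul_apply, smul_eq_mul]
  rw [show c * (i * a j) = i * (c * a j) by ring, ← h1]
  refine Finset.sum_congr rfl fun n _ => ?_
  ring

theorem lam_smul {l : ℕ} (i : ZMod m) (a : Fin l → ZMod m) (x : Fin l → ℤ) : lam (i • a) x = i * lam a x := by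
  unfold lam
  rw [Finset.mul_sum]
  refine Finset.sum_congr rfl fun n _ => ?_
  rw [Pi.smul_apply, smul_eq_mul]
  ring

/-- power sums of the root values -/
def psum (D : ChevalleyDatum) {l : ℕ} (a : Fin l → ZMod m) (k : ℕ) : ZMod m :=
  ∑ σ : Fin D.nroots, lam a (vec D l σ) ^ k

theorem psum_eq_of_rts {D : ChevalleyDatum} {l : ℕ} {a b : Fin l → ZMod m} (h : rts D l a = rts D l b) (k : ℕ) :
    psum D a k = psum D b k := by
  have h1 := congrArg (fun M : Multiset (ZMod m) => (M.map fun x => x ^ k).sum) h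
  simp only [rts, Multiset.map_map, Function.comp_def] at h1
  exact h1

theorem psum_smul (D : ChevalleyDatum) {l : ℕ} (i : ZMod m) (a : Fin l → ZMod m) (k : ℕ) :
    psum D (i • a) k = i ^ k * psum D a k := by
  unfold psum
  rw [Finset.mul_sum]
  refine Finset.sum_congr rfl fun σ _ => ?_
  rw [lam_smul, mul_pow]

theorem psum_qv (h : s ^ 2 = P * s + Q) (D : ChevalleyDatum) {l : ℕ} (A : Fin l → ℤ × ℤ) (k : ℕ) :
    psum D (qv s A) k = qev s (qsum D l P Q A k) := by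
  unfold psum
  have h1 : ∀ σ : Fin D.nroots, lam (qv s A) (vec D l σ) ^ k = qev s (qpow P Q (qlam A (vec D l σ)) k) := by
    intro σ
    rw [qev_pow h]
    exact congrArg (· ^ k) (qev_lam A _)
  rw [Finset.sum_congr rfl fun σ _ => h1 σ]
  unfold qsum qev
  push_cast
  rw [Finset.sum_mul, ← Finset.sum_add_distrib]

end

end Cfsg.Agent.H352.KE
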