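import Cfsg.Agent.H352.KE.Quad

/-!
# Rank two (helper352; S4822, KE)

`Fra`: the properties of `exists_frame` for a group isomorphic to `D.group F`; Sylow subgroups generated by two elements
`X a`, `X b`; fusion from power sums.
-/

set_option autoImplicit false
set_option linter.unusedSectionVars false

namespace Cfsg.Agent.H352.KE

open Cfsg Cfsg.Lie Cfsg.Lie.ChevalleyDatum Subgroup
open Cfsg.Agent.ChevalleyStructure Cfsg.Agent.ChevalleyStructure.Elts Cfsg.Agent.ChevalleyStructure.CoxeterGeomTypes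
open Cfsg.Agent.Nodes.RGDChev Cfsg.Agent.H129.WData Cfsg.Agent.H210.EL Cfsg.Agent.H129.TorusChar

universe u v

/-- the properties of `exists_frame` -/
structure Fra (D : ChevalleyDatum) (l : ℕ) (F : Type u) [Field F] [Fintype F] (m : ℕ) (A W : Mat l) (G : Type v) [Group G]
    (X : (Fin l → ZMod m) → G) : Prop where
  add : ∀ a b, Eig F W a → Eig F W b → X (a + b) = X a * X b
  inj : ∀ a, Eig F W a → X a = 1 → a = 0
  act : ∀ Cv : List (Fin l × Mat l), ChainOK A Cv → CommOK (hd Cv) W → ∃ c : G,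
    ∀ a b, Eig F W a → Eig F W b → (∀ j, ∑ n, (hd Cv j n : ZMod m) * b n = a j) → c * X a * c⁻¹ = X b
  fus : ∀ a b, Eig F W a → Eig F W b → IsConj (X a) (X b) → rts D l a = rts D l b

theorem exists_fra {D : ChevalleyDatum} {l : ℕ} {M : CoxeterMatrix (Fin l)} (hp : IsType D l M)
    {F : Type u} [Field F] [Fintype F] {m : ℕ} [NeZero m] (hm : (m : F) ≠ 0)
    {B : Fin l → Fin l → ℤ} (hB : InvC D l 1 B) {A : Mat l} (hA : ∀ i j, A i j = cartanOf D l i j)
    {Cw : List (Fin l × Mat l)} (hw : ChainOK A Cw) {G : Type v} [Group G] (e : G ≃* ↥(D.group F)) :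
    ∃ X, Fra D l F m A (hd Cw) G X := by
  obtain ⟨X, h1, h2, h3, h4⟩ := exists_frame hp hm hB hA hw
  refine ⟨fun a => e.symm (X a), ⟨?_, ?_, ?_, ?_⟩⟩
  · intro a b ha hb
    rw [h1 a b ha hb, map_mul]
  · intro a ha h
    exact h2 a ha (e.symm.injective (by rw [h, map_one]))
  · intro Cv hv hc
    obtain ⟨c, h⟩ := h3 Cv hv hc
    refine ⟨e.symm c, fun a b ha hb hab => ?_⟩
    rw [← h a b ha hb hab, map_mul, map_mul, map_inv]
  · intro a b ha hb h
    refine h4 a b ha hb ?_
    have h5 := e.toMonoidHom.map_isConj h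
    simpa using h5

namespace Fra

variable {D : ChevalleyDatum} {l : ℕ} {F : Type u} [Field F] [Fintype F] {m : ℕ} {A W : Mat l} {G : Type v} [Group G]
  {X : (Fin l → ZMod m) → G}

theorem zero (H : Fra D l F m A W G X) : X 0 = 1 := by
  have h0 : Eig F W (0 : Fin l → ZMod m) := by
    intro j
    simp
  have h1 := H.add 0 0 h0 h0
  rw [add_zero] at h1
  exact mul_eq_left.1 h1.symm

theorem nsmul (H : Fra D l F m A W G X) {a : Fin l → ZMod m} (ha : Eig F W a) (n : ℕ) :
    X ((n : ZMod m) • a) = X a ^ n := by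
  induction n with
  | zero => rw [Nat.cast_zero, zero_smul, pow_zero, H.zero]
  | succ n ih =>
    rw [Nat.cast_succ, add_smul, one_smul, H.add _ _ (eigOK_smul ha _) ha, ih, pow_succ]

theorem smul (H : Fra D l F m A W G X) [NeZero m] {a : Fin l → ZMod m} (ha : Eig F W a) (i : ZMod m) :
    X (i • a) = X a ^ i.val := by
  rw [← H.nsmul ha, ZMod.natCast_zmod_val]

theorem pow_m (H : Fra D l F m A W G X) {a : Fin l → ZMod m} (ha : Eig F W a) : X a ^ m = 1 := by
  rw [← H.nsmul ha, ZMod.natCast_self, zero_smul, H.zero]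

theorem order (H : Fra D l F m A W G X) {a : Fin l → ZMod m} (ha : Eig F W a) (h : ∀ i : ZMod m, i • a = 0 → i = 0) :
    orderOf (X a) = m := by
  refine Nat.dvd_antisymm (orderOf_dvd_of_pow_eq_one (H.pow_m ha)) ?_
  rw [← ZMod.natCast_eq_zero_iff]
  apply h
  apply H.inj _ (eigOK_smul ha _)
  rw [H.nsmul ha, pow_orderOf_eq_one]

theorem comm (H : Fra D l F m A W G X) {a b : Fin l → ZMod m} (ha : Eig F W a) (hb : Eig F W b) :
    Commute (X a) (X b) := by
  show X a * X b = X b * X a
  rw [← H.add a b ha hb, ← H.add b a hb ha, add_comm]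

/-- the homomorphism given by two eigenvectors -/
noncomputable def hom2 (H : Fra D l F m A W G X) {a b : Fin l → ZMod m} (ha : Eig F W a) (hb : Eig F W b) :
    Multiplicative (ZMod m × ZMod m) →* G where
  toFun i := X ((Multiplicative.toAdd i).1 • a + (Multiplicative.toAdd i).2 • b)
  map_one' := by
    show X ((0 : ZMod m) • a + (0 : ZMod m) • b) = 1
    rw [zero_smul, zero_smul, add_zero, H.zero]
  map_mul' i j := by
    rw [← H.add _ _ (eigOK_add (eigOK_smul ha _) (eigOK_smul hb _)) (eigOK_add (eigOK_smul ha _) (eigOK_smul hb _))]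
    congr 1
    rw [toAdd_mul, Prod.fst_add, Prod.snd_add, add_smul, add_smul]
    abel

/-- **Sylow subgroups of rank two.** -/
theorem exists_sylow [Finite G] {p : ℕ} [Fact p.Prime] (H : Fra D l F m A W G X) {N : ℕ} (hm : m = p ^ N)
    {a b : Fin l → ZMod m} (ha : Eig F W a) (hb : Eig F W b)
    (hab : ∀ i j : ZMod m, i • a + j • b = 0 → i = 0 ∧ j = 0) {R : ℕ} (hR : ¬ p ∣ R) (hG : Nat.card G = m ^ 2 * R) :
    ∃ P : Sylow p G, (P : Subgroup G) = closure {X b, X a} := by
  have hp : p.Prime := Fact.out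
  have : NeZero m := ⟨by rw [hm]; exact pow_ne_zero _ hp.ne_zero⟩
  let f := H.hom2 ha hb
  have hf : Function.Injective f := by
    rw [injective_iff_map_eq_one]
    intro i hi
    obtain ⟨h1, h2⟩ := hab _ _ (H.inj _ (eigOK_add (eigOK_smul ha _) (eigOK_smul hb _)) hi)
    exact Multiplicative.toAdd.injective (Prod.ext h1 h2)
  have hr : f.range = closure {X b, X a} := by
    apply le_antisymm
    · rintro _ ⟨i, rfl⟩
      show X ((Multiplicative.toAdd i).1 • a + (Multiplicative.toAdd i).2 • b) ∈ _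
      rw [H.add _ _ (eigOK_smul ha _) (eigOK_smul hb _), H.smul ha, H.smul hb]
      exact mul_mem (pow_mem (subset_closure (by simp)) _) (pow_mem (subset_closure (by simp)) _)
    · rw [closure_le]
      rintro x (rfl | rfl)
      · refine ⟨Multiplicative.ofAdd (0, 1), ?_⟩
        show X ((0 : ZMod m) • a + (1 : ZMod m) • b) = _
        rw [zero_smul, one_smul, zero_add]
      · refine ⟨Multiplicative.ofAdd (1, 0), ?_⟩
        show X ((1 : ZMod m) • a + (0 : ZMod m) • b) = _
        rw [zero_smul, one_smul, add_zero]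
  have hc : Nat.card ↥(closure {X b, X a}) = m ^ 2 := by
    rw [← hr, Nat.card_congr (MonoidHom.ofInjective hf).toEquiv.symm]
    show Nat.card (ZMod m × ZMod m) = m ^ 2
    rw [Nat.card_prod, Nat.card_zmod, sq]
  have hR0 : R ≠ 0 := by
    rintro rfl
    exact hR (dvd_zero _)
  refine ⟨Sylow.ofCard (closure {X b, X a}) ?_, rfl⟩
  rw [hc, hG, Nat.factorization_mul (pow_ne_zero _ (NeZero.ne m)) hR0, Finsupp.add_apply,
    Nat.factorization_eq_zero_of_not_dvd hR, add_zero, hm, ← pow_mul, hp.factorization_pow, Finsupp.single_eq_same]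

end Fra

end Cfsg.Agent.H352.KE
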