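import Cfsg.Agent.H352.KE.F4
import Cfsg.Agent.H832.KB.RankTwo
import Cfsg.Agent.H832.KB.Family
import Cfsg.Agent.H804.KB.AbChev
import Cfsg.Agent.H191.KB.Final
import Cfsg.Agent.H508.KB.Asm

/-!
# S4822 [KE2]: the row `F₄` (helper352)
-/

set_option autoImplicit false

open Cfsg Subgroup

namespace Cfsg.Agent.H352.KE

universe u

variable {p : ℕ} [Fact p.Prime] {M : Ideal AlgInt} {S : Type u} [Group S] [Finite S] [IsSimpleGroup S]

/-- **KE2: the row `F₄`.** -/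
theorem row_F4 {r : ℕ} [Fact r.Prime] {F : Type} [Field F] [Fintype F] [CharP F r] (hrp : r ≠ p) (h11 : 11 ≤ p)
    (hM : IsPModular p M) (e : Nonempty (S ≃* Lie.chevF4.group F)) (hP : H508.KB.NC p S) :
    H508.KB.Row p M S := by
  refine H191.KB.row_of_ab hM (H804.KB.ab_chev hrp (by omega) (F := F) (Or.inr (Or.inl e))) ?_
  obtain ⟨e⟩ := e
  refine F4.kB_F4 hrp h11 hM ?_ ?_ ?_ e hP
  · intro P x y h1 h2 h3 h4 h5 i h6 c h7 j h8
    exact H832.KB.kB_of_rank_two hM P x y h1 h2 h3 h4 h5 i h6 c h7 j h8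
  · intro x x' k k' h1 h2 h3 h4 i i' b b' h5 h6 h7 h8 h9
    exact H832.KB.kB_of_two hM x x' k k' h1 h2 h3 h4 i i' b b' h5 h6 h7 h8 h9
  · intro P x y h1 h2 h3 c h4 j h5
    exact H832.KB.rank_of_rank_two hM P x y h1 h2 h3 c h4 j h5

end Cfsg.Agent.H352.KE
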